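import Mathlib
import Cfsg.Agent.Base
import Cfsg.Agent.Lib.TI2.L3e
import Cfsg.Agent.Lib.TE.Loc
import Cfsg.Agent.Lib.Cls.Four
import Cfsg.Agent.Lib.LocEven.ZC
import Cfsg.Agent.Lib.Transfer.HSub
import Cfsg.Agent.Lib.CIT.EPPO
import Cfsg.Agent.Lib.PComp.Automizer

/-!
# Two natural `SL₂(q)`-blocks with a common Sylow subgroup, VI: identification of `PSL₃(q)`
-/

set_option autoImplicit false
set_option linter.unusedSectionVars false

namespace H23.L3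

open Subgroup Cfsg H69 H45 H55.Two Gold
open scoped commutatorElement MatrixGroups

variable {G : Type*} [Group G] [Finite G] {F : Type*} [Field F] [Finite F]
  {L L' A B : Subgroup G}

theorem NB.back (n : NB L A B) {l x : G} (hl : l ∈ L) (hx : x ∈ A ⊔ B ^ᶜ l)
    (hn : x ∈ 𝐍((A ⊓ B : Subgroup G))) : x ∈ A ⊔ B := by
  obtain ⟨⟨z, hz⟩, z1⟩ := ne_bot_iff_exists_ne_one.1 n.Z_ne
  replace z1 : z ≠ 1 := fun e => z1 (Subtype.ext e)
  by_cases e : l ∈ 𝐍((A ⊓ B : Subgroup G))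
  · rwa [cj_eq_of_mem_normalizer (n.swB (n.normJ (le_normalizer hl) hz z1
      (conj_mem_of_mem_normalizer e hz)) (n.LA hl))] at hx
  have n' := n.cjL hl
  obtain ⟨a, ha, b, hb, rfl⟩ := n'.dec hx
  have := n.eq_one hl e (cm_left hz ((mul_mem_cancel_left (n.normZ (mem_sup_left ha))).1 hn))
    (n'.cm_mem hz.1 hb).2
  exact mem_sup_left (mul_mem ha ((n'.nc z hz.1 b hb (cm_eq_one.1 this)).resolve_left
    fun k => z1 (n.eq_one hl e hz k)))

theorem NB.L_le (n : NB L A B) : L ≤ normalClosure ((A ⊔ B : Subgroup G) : Set G) := by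
  obtain ⟨l, -, -, e⟩ := n.gen
  exact e.trans (sup_le le_normalClosure
    (cj_le_of_mem_normalizer le_normalClosure (le_normalizer_of_normal (mem_top l))))

theorem NB.A_le (n : NB L A B) {N : Subgroup G} (hN : L ≤ 𝐍(N)) {x : G} (hx : x ∈ N) (hA : x ∈ A)
    (x1 : x ≠ 1) : A ≤ N := fun a ha => by
  by_cases a1 : a = 1
  · rw [a1]; exact one_mem _
  obtain ⟨l, hl, rfl⟩ := n.tr x hA a ha x1 a1
  exact conj_mem_of_mem_normalizer (hN hl) hx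

theorem sub_inf (A B X : Subgroup G) :
    A.subgroupOf X ⊓ B.subgroupOf X = (A ⊓ B).subgroupOf X := rfl

theorem NB.t1 (n : NB L A B) {X : Subgroup G} (hX : L ≤ X) :
    ¬ 𝐍(A.subgroupOf X) ≤ 𝐍((A.subgroupOf X ⊓ B.subgroupOf X : Subgroup X)) := fun e => by
  obtain ⟨l, hl, hn, -⟩ := n.gen
  have AX : A ≤ X := (le_sup_left.trans n.JL).trans hX
  rw [← subgroupOf_normalizer_eq AX, sub_inf,
    ← subgroupOf_normalizer_eq (inf_le_left.trans AX)] at e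
  exact hn (e (x := ⟨l, hX hl⟩) (n.LA hl))

theorem NB.Dc_eq (n : NB L A B) {X : Subgroup G} (hX : L ≤ X)
    (t : T2 (A.subgroupOf X) (B.subgroupOf X)) : Dc (A.subgroupOf X) = ⊥ := by
  have AX : A ≤ X := (le_sup_left.trans n.JL).trans hX
  refine eq_bot_iff.2 fun d hd => by_contra fun d1 => ?_
  obtain ⟨a, ha, haB⟩ := n.exA
  obtain ⟨l, hl, rfl⟩ := n.tr d (t.Dc_le hd).1 a ha (fun e => d1 (Subtype.ext e))
    fun e => haB (e ▸ one_mem _)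
  exact haB (t.Dc_le (conj_mem_of_mem_normalizer (g := ⟨l, hX hl⟩) (norm_Dc _ (by
    rw [← subgroupOf_normalizer_eq AX]; exact n.LA hl)) hd)).2

namespace Cf

variable (h : Cf F L L' A B) (hq : 8 ≤ Nat.card F) (hG : IsCharacteristicTwoType G)
include h hq hG

theorem ti {z g : G} (hz : z ∈ A ⊓ B) (z1 : z ≠ 1) (e : g * z * g⁻¹ ∈ A ⊓ B) :
    g ∈ 𝐍((A ⊔ B : Subgroup G)) := by
  obtain ⟨t, ht, e1⟩ := h.trZ hz e z1 (mt conj_eq_one_iff.1 z1)
  refine (mul_mem_cancel_left (inv_mem ht)).1 (h.cen (by omega) hG hz z1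
    (mem_centralizer_singleton_iff.2 ?_))
  calc t⁻¹ * g * z = t⁻¹ * (g * z * g⁻¹) * g := by group
    _ = _ := by rw [← e1]; group

theorem invA {g x : G} (hx : x ∈ (A ⊓ B) ^ᶜ g) (hn : x ∈ 𝐍((A ⊔ B : Subgroup G)))
    (hA : x ∈ 𝐍(A)) : x ∈ A ⊔ B := by
  by_cases x1 : x = 1
  · rw [x1]; exact one_mem _
  have h' := h.cj g
  rw [cj_inf] at hx
  have c1 := H19.card_le_sq_card_centralizer (fun a ha b hb => h.te.comm ha hb) h.te.sqA
    (h'.te.sqA x hx.1) fun e he => conj_mem_of_mem_normalizer hA he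
  have hU : A ⊓ 𝐂[x] ≤ 𝐍((A ^ᶜ g ⊔ B ^ᶜ g : Subgroup G)) :=
    inf_le_right.trans (h'.cen (by omega) hG hx x1)
  have c2 := h'.idxN hU
  have c3 := h'.idxJ hU fun e he => h.te.sqA e he.1
  rw [h.card_A, Nat.pow_le_pow_iff_left two_ne_zero] at c1
  obtain ⟨⟨u, hu, uJ⟩, u1⟩ := ne_bot_iff_exists_ne_one.1 ((one_lt_card_iff_ne_bot
    (A ⊓ 𝐂[x] ⊓ (A ^ᶜ g ⊔ B ^ᶜ g))).1 (by omega))
  replace u1 : u ≠ 1 := fun e => u1 (Subtype.ext e)
  obtain ⟨l, hl, ul⟩ := h.n1.cover hu.1 u1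
  have k : ∀ X : Subgroup G, (∀ e ∈ X, e * e = 1) → Nat.card X = Nat.card F ^ 2 → u ∈ X → x ∈ X →
      x ∈ A ⊔ B := fun X h2 hc uX xX => h.n1.back hl (by
    rcases (h.cjL hl).big (by omega) (fun e he => (h.cjL hl).cen (by omega) hG ⟨hu.1, ul⟩ u1
      (mem_centralizer_singleton_iff.2 (comm2 h2 he uX))) h2 hc.ge with e | e
    exacts [mem_sup_left (e ▸ xX), mem_sup_right (e ▸ xX)]) (h.te.normS_Z hn)
  rcases h'.te.mem_or uJ (h.te.sqA u hu.1) with e | e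
  exacts [k _ h'.te.sqA h'.card_A e hx.1, k _ h'.te.sqB h'.symm.card_A e hx.2]

theorem inv {g x : G} (hx : x ∈ (A ⊓ B) ^ᶜ g) (hn : x ∈ 𝐍((A ⊔ B : Subgroup G))) :
    x ∈ A ⊔ B := by
  by_cases hA : x ∈ 𝐍(A)
  · exact h.invA hq hG hx hn hA
  have h' := h.cj g
  have hx' := cj_inf A B g ▸ hx
  have s2 : ∀ e ∈ (A ⊓ B) ^ᶜ g, e * e = 1 := fun e he => h'.te.sqA e (cj_mono g inf_le_left he)
  have c1 := H19.card_le_sq_card_centralizer (E := A ⊓ B) (fun a ha b hb => h.te.comm ha.1 hb.1)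
    (fun a ha => h.te.sqA a ha.1) (s2 x hx)
    fun e he => conj_mem_of_mem_normalizer (h.te.normS_Z hn) he
  have c2 := h'.idxC (inf_le_right.trans (h'.cen (by omega) hG hx' fun e => hA (e ▸ one_mem _)))
    fun e (he : e ∈ A ⊓ B ⊓ 𝐂[x]) => h.te.sqA e he.1.1
  rw [h.card_Z] at c1
  obtain ⟨⟨u, hu, uC⟩, u1⟩ := ne_bot_iff_exists_ne_one.1 ((one_lt_card_iff_ne_bot
    (A ⊓ B ⊓ 𝐂[x] ⊓ 𝐂((A ^ᶜ g ⊓ B ^ᶜ g : Subgroup G)))).1 (by nlinarith))
  have hE : (A ⊓ B) ^ᶜ g ≤ 𝐍((A ⊔ B : Subgroup G)) := fun e he =>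
    h.cen (by omega) hG hu.1 (fun e => u1 (Subtype.ext e))
      (mem_centralizer_singleton_iff.2 (uC e (cj_inf A B g ▸ he)))
  have c3 := h.idxN hE
  rw [card_cj, h.card_Z] at c3
  obtain ⟨⟨e, he, eA⟩, e1⟩ := ne_bot_iff_exists_ne_one.1 ((one_lt_card_iff_ne_bot
    ((A ⊓ B) ^ᶜ g ⊓ 𝐍(A))).1 (by omega))
  have eZ := h.te.le_Z (inf_le_right (a := (A ⊓ B) ^ᶜ g)) (fun e he => s2 e he.1) hn hA
    (H69.le_normalizer_inf le_normalizer hE hx) ⟨he, h.invA hq hG he (hE he) eA⟩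
  obtain ⟨z, hz, rfl⟩ := mem_cj'.1 he
  exact cj_le_of_mem_normalizer (inf_le_left.trans le_sup_left)
    (h.ti hq hG hz (fun e => e1 (Subtype.ext (conj_eq_one_iff.2 e))) eZ) hx

theorem invJ {g t : G} (ht : t ∈ A ⊔ B) (t2 : t * t = 1)
    (hn : g * t * g⁻¹ ∈ 𝐍((A ⊔ B : Subgroup G))) : g * t * g⁻¹ ∈ A ⊔ B := by
  by_cases t1 : t = 1
  · rw [t1, mul_one, mul_inv_cancel]; exact one_mem _
  obtain ⟨l, e⟩ : ∃ l, t ∈ (A ⊓ B) ^ᶜ l := by
    rcases h.te.mem_or ht t2 with e | e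
    · obtain ⟨l, hl, e'⟩ := h.n1.cover e t1
      exact ⟨l, h.te.inf_cj (h.n1.LA hl) ▸ ⟨e, e'⟩⟩
    · obtain ⟨l, hl, e'⟩ := h.n2.cover e t1
      exact ⟨l, inf_comm B A ▸ h.te.symm.inf_cj (h.n2.LA hl) ▸ ⟨e, e'⟩⟩
  exact h.inv hq hG (cj_cj _ l g ▸ cj_mem g e) hn

theorem closedA {g t : G} (ht : t ∈ A ⊔ B) (t2 : t * t ≠ 1)
    (hn : g * t * g⁻¹ ∈ 𝐍((A ⊔ B : Subgroup G))) (hA : g * (t * t) * g⁻¹ ∈ A) :
    g * t * g⁻¹ ∈ A ⊔ B := by
  obtain ⟨l, hl, e⟩ := h.n1.cover hA (mt conj_eq_one_iff.1 t2)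
  have m := h.ti hq hG (g := l⁻¹ * g) (h.te.sq_mem ht) t2 (by
    rw [show l⁻¹ * g * (t * t) * (l⁻¹ * g)⁻¹ = l⁻¹ * (g * (t * t) * g⁻¹) * l by group]
    exact ⟨conj_mem_of_mem_normalizer' (h.n1.LA hl) hA, mem_cj.1 e⟩)
  refine h.n1.back hl ?_ (h.te.normS_Z hn)
  rw [← cj_eq_of_mem_normalizer (h.n1.LA hl), ← cj_sup, mem_cj,
    show l⁻¹ * (g * t * g⁻¹) * l = l⁻¹ * g * t * (l⁻¹ * g)⁻¹ by group]
  exact conj_mem_of_mem_normalizer m ht

theorem closed {g t : G} (ht : t ∈ A ⊔ B) (hn : g * t * g⁻¹ ∈ 𝐍((A ⊔ B : Subgroup G))) :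
    g * t * g⁻¹ ∈ A ⊔ B := by
  by_cases t2 : t * t = 1
  · exact h.invJ hq hG ht t2 hn
  have m := h.te.sq_mem ht
  have s := h.te.sqA _ m.1
  rcases h.te.mem_or (h.invJ hq hG (g := g) (mem_sup_left m.1) s (by rw [← conj_mul]; exact mul_mem hn hn))
    (by rw [conj_mul, s]; simp) with e | e
  · exact h.closedA hq hG ht t2 hn e
  · exact sup_comm B A ▸ h.symm.closedA hq hG (sup_comm A B ▸ ht) t2 (sup_comm A B ▸ hn) e

theorem sylowL : IsSylowIn 2 (A ⊔ B) (normalClosure ((A ⊔ B : Subgroup G) : Set G)) := by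
  haveI : Fact (Nat.Prime 2) := ⟨Nat.prime_two⟩
  obtain ⟨S, hS⟩ := exists_isSylowIn 2 𝐍((A ⊔ B : Subgroup G))
  have hS' := h.sylow (by omega) hS
  obtain ⟨P, rfl⟩ := hS'.exists_sylow_top
  have hc : normalClosure ((A ⊔ B : Subgroup G) : Set G) ≤ _root_.commutator G := by
    obtain ⟨a, ha, haB⟩ := h.te.exA
    obtain ⟨b, hb, hbA⟩ := h.te.symm.exA
    have m := h.te.cm_mem ha hb
    have m1 : ⁅a, b⁆ ≠ 1 := fun e => (h.te.nc a ha b hb (cm_eq_one.1 e)).elim haB hbA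
    have m2 : ⁅a, b⁆ ∈ _root_.commutator G := commutator_mem_commutator (mem_top a) (mem_top b)
    exact normalClosure_le_normal (SetLike.coe_subset_coe.2 (sup_le
      (h.n1.A_le le_normalizer_of_normal m2 m.1 m1) (h.n2.A_le le_normalizer_of_normal m2 m.2 m1)))
  have hf : _root_.commutator G ⊓ P ≤ A ⊔ B := by
    rw [commutator_inf_eq_focalSubgroup, focalSubgroup_def, closure_le]
    rintro _ ⟨h4, x, hx, u, rfl⟩
    have := H4.fusion_mod_of_stronglyClosed P (E := A ⊔ B)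
      ⟨h.JS hS, fun x hx g hg => h.closed hq hG hx (hS.le hg)⟩ le_rfl
      (fun a ha g hg h5 => by
        have e : a⁻¹ * (g * a * g⁻¹) = ⁅a⁻¹, g⁆ := by rw [commutatorElement_def]; group
        have m := mul_mem (inv_mem ha) h5
        rw [e] at m ⊢
        exact h.cm_memJ (hS.le (inv_mem ha)) hg (.of_mem hS.isP m))
      (inv_mem hx) (g := u) (by
        rw [show u * x⁻¹ * u⁻¹ = x⁻¹ * ⁅x, u⁆ by rw [commutatorElement_def]; group]
        exact mul_mem (inv_mem hx) h4)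
    simpa [commutatorElement_def, mul_assoc] using this
  have := hS'.inf_normal (N := normalClosure ((A ⊔ B : Subgroup G) : Set G)) le_top
    le_normalizer_of_normal
  rwa [le_antisymm (fun x hx => hf ⟨hc hx.2, hx.1⟩) (le_inf (h.JS hS) le_normalClosure)] at this

theorem J_le_of {N : Subgroup G} (hN : N ≠ ⊥) (h1 : L ≤ 𝐍(N)) (h2 : L' ≤ 𝐍(N)) : A ⊔ B ≤ N := by
  haveI : Fact (Nat.Prime 2) := ⟨Nat.prime_two⟩
  have hS : A ⊔ B ≤ 𝐍(N) := h.n1.JL.trans h1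
  obtain ⟨x, hx, x1, hc⟩ : ∃ x ∈ N, x ≠ 1 ∧ x ∈ 𝐂((A ⊔ B : Subgroup G)) := by
    by_cases h3 : 2 ∣ Nat.card N
    · letI := MulDistribMulAction.compHom N (N.normalizerMonoidHom.comp (inclusion hS))
      obtain ⟨x, hx, hx1⟩ := h.te.pS.exists_fixed_point_of_prime_dvd_card_of_fixed_point N h3
        (a := 1) fun g => smul_one g
      exact ⟨x, x.2, fun e => hx1 (Subtype.ext e.symm), fun s hs =>
        mul_inv_eq_iff_eq_mul.1 (congrArg Subtype.val (hx ⟨s, hs⟩))⟩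
    have h4 := (Nat.prime_two.coprime_iff_not_dvd.2 h3).symm
    obtain ⟨⟨x, hx⟩, x1⟩ := ne_bot_iff_exists_ne_one.1 hN
    obtain ⟨ψ, y, c, k⟩ := h.co
    obtain ⟨v, hv, v1, -⟩ := k.exists_ne (by omega) 1
    obtain ⟨w, hw, w1, wv⟩ := k.exists_ne (by omega) v
    have o : ∀ v ∈ A ⊓ B, v ≠ 1 → orderOf v = 2 := fun v hv v1 =>
      orderOf_eq_prime (by rw [pow_two, k.sqA v hv.1]) v1
    have c : ∀ v ∈ A ⊓ B, v ≠ 1 → N ⊓ 𝐂[v] ≤ 𝐍((A ⊔ B : Subgroup G)) := fun v hv v1 =>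
      inf_le_right.trans (h.cen (by omega) hG hv v1)
    have := H70.le_of_four (o w hw w1) (o v hv v1) (k.comm hw.1 hv.1) wv h4 (hS (mem_sup_left hw.1))
      (hS (mem_sup_left hv.1)) (c w hw w1) (c v hv v1) (c _ (mul_mem hw hv) fun e => wv (by
        rw [← k.inv hv.1]; exact eq_inv_of_mul_eq_one_left e))
    exact ⟨x, hx, fun e => x1 (Subtype.ext e), fun s hs => cm_eq_one.1
      ((El2.of_mem k.pS (cm_left hs (this hx))).eq_one ((Nat.coprime_two_right.1 h4).of_dvd_nat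
        (N.orderOf_dvd_natCard (cm_right (hS hs) hx))))⟩
  exact sup_le (h.n1.A_le h1 hx (h.cA (centralizer_anti le_sup_left hc)) x1)
    (h.n2.A_le h2 hx (h.cB (centralizer_anti le_sup_right hc)) x1)

theorem simple : IsSimpleGroup (normalClosure ((A ⊔ B : Subgroup G) : Set G)) := by
  obtain ⟨a, ha, haB⟩ := h.te.exA
  set X := normalClosure ((A ⊔ B : Subgroup G) : Set G)
  haveI : Nontrivial X := ⟨⟨a, le_normalClosure (mem_sup_left ha)⟩, 1,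
    fun e => haB ((show a = 1 from congrArg Subtype.val e) ▸ one_mem _)⟩
  refine ⟨fun N hN => or_iff_not_imp_left.2 fun hne => ?_⟩
  have h1 := normal_iff_le_normalizer_map.1 hN
  rw [← map_subtype_eq_self_iff]
  refine le_antisymm (map_subtype_le _) ((ncl_top _).ge.trans (ncl_le_iff.2 fun g _ => ?_))
  rw [cj_le_iff]
  have h2 : X ≤ 𝐍(N.map X.subtype ^ᶜ g⁻¹) := by
    rw [← cj_normalizer, ← cj_le_iff]
    exact (cj_le_of_mem_normalizer le_rfl (le_normalizer_of_normal (mem_top g))).trans h1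
  exact h.J_le_of hq hG (fun e => hne (by rwa [cj_eq_bot_iff, map_subtype_eq_bot_iff] at e))
    (h.n1.L_le.trans h2) ((sup_comm B A ▸ h.n2.L_le).trans h2)

theorem fstar : generalizedFittingSubgroup G = normalClosure ((A ⊔ B : Subgroup G) : Set G) := by
  haveI := h.simple hq hG
  refine H44.fStar_eq_of_centralizer_eq_bot ⟨Subgroup.Normal.isSubnormal inferInstance,
    H23.isQuasisimple_of_isSimpleGroup fun e => ?_⟩ (eq_bot_iff.2 fun x hx => ?_)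
  · obtain ⟨a, ha, haB⟩ := h.te.exA
    obtain ⟨b, hb, hbA⟩ := h.te.symm.exA
    exact (h.te.nc a ha b hb (congrArg Subtype.val (e.is_comm.comm
      ⟨a, le_normalClosure (mem_sup_left ha)⟩ ⟨b, le_normalClosure (mem_sup_right hb)⟩))).elim haB hbA
  · have := centralizer_anti h.n1.L_le hx
    exact h.n1.cenL (h.cA (centralizer_anti (le_sup_left.trans h.n1.JL) this)) this

theorem psl3 : Nonempty (generalizedFittingSubgroup G ≃* PSL(3, F)) := by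
  haveI := h.simple hq hG
  rw [h.fstar hq hG]
  have hS := (h.sylowL hq hG).subgroupOf_top
  have l1 := h.n1.L_le
  have l2 : L' ≤ _ := sup_comm B A ▸ h.n2.L_le
  set X := normalClosure ((A ⊔ B : Subgroup G) : Set G)
  have AX : A ≤ X := (le_sup_left.trans h.n1.JL).trans l1
  have BX : B ≤ X := h.n1.BL.trans l1
  obtain ⟨ψ, y, c, k⟩ := h.co
  have big : ∀ {A B : Subgroup G}, A ≤ X → (∃ a ∈ A, ∃ a' ∈ A, a ∉ B ∧ a' ∉ B ∧ a * a' ∉ B) →
      ∃ a ∈ A.subgroupOf X, ∃ a' ∈ A.subgroupOf X, a ∉ B.subgroupOf X ∧ a' ∉ B.subgroupOf X ∧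
        a * a' ∉ B.subgroupOf X := fun e ⟨a, ha, a', ha', r⟩ => ⟨⟨a, e ha⟩, ha, ⟨a', e ha'⟩, ha', r⟩
  have t : T2 (A.subgroupOf X) (B.subgroupOf X) :=
    ⟨⟨⟨fun a ha => Subtype.ext (k.sqA a ha), fun a ha => Subtype.ext (k.sqB a ha),
      fun b hb => subgroupOf_normalizer_eq AX ▸ k.nA hb,
      fun b hb => subgroupOf_normalizer_eq BX ▸ k.nB hb,
      fun a ha b hb e => k.nc a ha b hb (congrArg Subtype.val e),
      fun e => k.neA fun a ha => e (x := ⟨a, AX ha⟩) ha,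
      fun e => k.neB fun a ha => e (x := ⟨a, BX ha⟩) ha⟩, subgroupOf_sup AX BX ▸ hS, h.n1.t1 l1,
      inf_comm (B.subgroupOf X) _ ▸ h.n2.t1 l2⟩, big AX (k.big (by omega)),
      big BX (k.symm.big (by omega))⟩
  obtain ⟨K, _, _, e, ⟨φ⟩⟩ := N3.psl ⟨t.nice, t.nice.types.resolve_right fun e => t.Z_ne
    (eq_bot_iff.2 ((e t).trans (by rw [h.n1.Dc_eq l1 t, h.n2.Dc_eq l2 t.symm, bot_sup_eq])))⟩ t
  haveI := Fintype.ofFinite F
  rw [sub_inf, card_subgroupOf (inf_le_left.trans AX), card_subgroupOf BX, k.card_Z,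
    k.card_B, sq, mul_left_inj' Nat.card_pos.ne', Nat.card_eq_fintype_card] at e
  obtain ⟨φ'⟩ := H32.nonempty_psl_congr (ι := Fin 3) e
  exact ⟨φ.trans φ'⟩

end Cf

end H23.L3
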