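import Mathlib
import Cfsg.Agent.Base
import Cfsg.Agent.Lib.TI2.L3f
import Cfsg.Agent.Lib.Cls.Four
import Cfsg.Agent.Lib.Invol.Dihedral

/-!
# Pushing up in groups of characteristic 2 type, I: an involution interchanging two modules
-/

set_option autoImplicit false
set_option linter.unusedSectionVars false

namespace H23.PU

open Subgroup Cfsg H69 H45 H55.Two Gold H23.L3
open scoped commutatorElement

variable {G : Type*} [Group G] [Finite G] {A B E X : Subgroup G} {t : G}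

theorem charC (hG : IsCharacteristicTwoType G) (t2 : t * t = 1) (t1 : t ≠ 1) :
    H70.CharP 2 𝐂[t] := by
  have hC := (charP hG (El2.of_mul_self t2).isPGroup
    (mt zpowers_eq_bot.1 t1)).inf_centralizer_singleton
    (k := 1) (by rw [pow_one, sq, t2]) (le_normalizer (mem_zpowers t))
  rwa [inf_eq_right.2 (H69.centralizer_zpowers t ▸ centralizer_le_normalizer _)] at hC

theorem exists_inv (hX : IsPGroup 2 X) (h : X ≠ ⊥) : ∃ x ∈ X, x * x = 1 ∧ x ≠ 1 := by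
  obtain ⟨x, hx, e⟩ := H9.exists_involution_of_isPGroup hX h
  exact ⟨x, hx, H9.mul_self_of_orderOf_two e, H9.ne_one_of_orderOf_two e⟩

theorem exists_cen_inv {x : G} (ht : El2 t) (hn : t ∈ 𝐍(X)) (hx : x ∈ X) (x2 : x * x = 1)
    (x1 : x ≠ 1) : ∃ n ∈ X, n * n = 1 ∧ n ≠ 1 ∧ n * t = t * n := by
  obtain ⟨S, hS, hl⟩ := exists_isSylowIn_le ht.isPGroup (le_sup_right : zpowers t ≤ X ⊔ zpowers t)
  have nX : X ⊔ zpowers t ≤ 𝐍(X) := sup_le le_normalizer (zpowers_le.2 hn)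
  have h1 := hS.inf_normal le_sup_left nX
  obtain ⟨g, -, hg⟩ := h1.exists_cj_le (El2.of_mul_self x2).isPGroup (zpowers_le.2 hx)
  obtain ⟨n, hn, n2, n1⟩ := exists_inv (h1.isP.to_le inf_le_left) (inf_centralizer_ne_bot h1.isP
    hS.isP (H69.le_normalizer_inf le_normalizer (hS.le.trans nX)) fun e => x1 (by
      simpa [e] using hg))
  exact ⟨n, hn.1.2, n2, n1, (hn.2 t (hl (mem_zpowers t))).symm⟩

theorem exists_two (h : 2 < Nat.card X) : ∃ a ∈ X, ∃ b ∈ X, a ≠ 1 ∧ b ≠ 1 ∧ a ≠ b := by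
  obtain ⟨a, b, c, ha, hb, hc, h1, h2, h3⟩ := (Set.two_lt_ncard_iff (s := (X : Set G))).1 h
  exact ⟨a⁻¹ * b, mul_mem (inv_mem ha) hb, a⁻¹ * c, mul_mem (inv_mem ha) hc,
    mt inv_mul_eq_one.1 h1, mt inv_mul_eq_one.1 h2, mt mul_left_cancel h3⟩

/-- `A B` has index two in a Sylow subgroup `A B ⟨t⟩` of its normalizer, `t` swaps `A` and `B`. -/
structure Sw (A B : Subgroup G) (t : G) : Prop extends TE A B where
  two : ∀ x ∈ 𝐍(A), x ∈ 𝐍(B) → El2 x → x ∈ A ⊔ B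
  big : 2 * Nat.card (A ⊓ B : Subgroup G) < Nat.card A
  tJ : t ∈ 𝐍((A ⊔ B : Subgroup G))
  tA : t ∉ 𝐍(A)
  t2 : t * t = 1

namespace Sw

variable (h : Sw A B t)
include h

theorem cA : A ^ᶜ t = B := (h.toTE.sw' h.tJ h.tA).1

theorem cB : B ^ᶜ t = A := (h.toTE.sw' h.tJ h.tA).2

theorem card_B : Nat.card B = Nat.card A := by rw [← h.cA, card_cj]

theorem mem {x : G} (hx : x ∈ 𝐍((A ⊔ B : Subgroup G))) (hA : x ∈ 𝐍(A)) (h2 : El2 x) : x ∈ A ⊔ B :=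
  h.two x hA (h.toTE.swB hx hA) h2

theorem small (hE : E ≤ 𝐍((A ⊔ B : Subgroup G))) (h2 : ∀ e ∈ E, e * e = 1) (hn : ¬ E ≤ A ⊔ B) :
    ∃ s ∈ E, s ∉ 𝐍(A) ∧ Nat.card E ≤ 2 * Nat.card (E ⊓ (A ⊓ B) : Subgroup G) := by
  obtain ⟨s, hs, hsJ⟩ := SetLike.not_le_iff_exists.1 hn
  have sA : s ∉ 𝐍(A) := fun e => hsJ (h.mem (hE hs) e (El2.of_mul_self (h2 s hs)))
  refine ⟨s, hs, sA, (idx2 (X := 𝐍(A)) fun x hx y hy e e' =>
    h.toTE.sw_mul (hE hx) (hE hy) e e').trans (Nat.mul_le_mul_left _ (card_le_of_le (le_inf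
      inf_le_left (h.toTE.le_Z (fun x hx => h.mem (hE hx.1) hx.2 (El2.of_mul_self (h2 x hx.1)))
        (fun x hx => h2 x hx.1) (hE hs) sA ?_))))⟩
  exact centralizer_le_normalizer _ fun x hx => comm2 h2 hx.1 hs

theorem wc (hE : E ≤ 𝐍((A ⊔ B : Subgroup G))) (h2 : ∀ e ∈ E, e * e = 1)
    (hc : Nat.card A ≤ Nat.card E) : E = A ∨ E = B := by
  have : E ≤ A ⊔ B := by
    by_contra hn
    obtain ⟨-, -, -, e⟩ := h.small hE h2 hn
    have := card_le_of_le (inf_le_right : E ⊓ (A ⊓ B) ≤ _)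
    have := h.big
    omega
  exact (h.le_or this h2).imp (fun e => eq_of_le_of_card_ge e hc)
    fun e => eq_of_le_of_card_ge e (h.card_B.trans_le hc)

theorem normJ {g : G} (hg : (A ⊔ B) ^ᶜ g ≤ 𝐍((A ⊔ B : Subgroup G))) :
    g ∈ 𝐍((A ⊔ B : Subgroup G)) := by
  rw [cj_sup] at hg
  refine mem_normalizer_of_cj_le (cj_sup A B g ▸ sup_le ?_ ?_)
  · rcases h.wc (le_sup_left.trans hg) (h.toTE.cj g).sqA (card_cj A g).ge with e | e
    exacts [e.le.trans le_sup_left, e.le.trans le_sup_right]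
  · rcases h.wc (le_sup_right.trans hg) (h.toTE.cj g).sqB (h.card_B.ge.trans (card_cj B g).ge)
      with e | e
    exacts [e.le.trans le_sup_left, e.le.trans le_sup_right]

theorem invZ {e : G} (he : e ∈ A ⊔ B) (e2 : e * e = 1) (hc : e * t = t * e) : e ∈ A ⊓ B :=
  h.toTE.le_Z (zpowers_le.2 he) (fun _ hx => ea_sq (ea_zpowers e2) hx) h.tJ h.tA
    (centralizer_le_normalizer _ (H69.centralizer_zpowers e ▸
      mem_centralizer_singleton_iff.2 hc.symm)) (mem_zpowers e)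

theorem inv_cases {e : G} (he : e ∈ 𝐍((A ⊔ B : Subgroup G))) (e2 : e * e = 1) (hc : e * t = t * e) :
    e ∈ A ⊓ B ∨ e * t ∈ A ⊓ B := by
  by_cases hA : e ∈ 𝐍(A)
  · exact Or.inl (h.invZ (h.mem he hA (El2.of_mul_self e2)) e2 hc)
  have k : e * t * (e * t) = 1 := by
    rw [mul_assoc, ← mul_assoc t, ← hc, mul_assoc, h.t2, mul_one, e2]
  exact Or.inr (h.invZ (h.mem (mul_mem he h.tJ) (h.toTE.sw_mul he h.tJ hA h.tA)
    (El2.of_mul_self k)) k (by rw [← mul_assoc, ← hc]))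

theorem cenT (hG : IsCharacteristicTwoType G) (hZ : 4 < Nat.card (A ⊓ B : Subgroup G))
    (hc : ∀ z ∈ A ⊓ B, z ≠ 1 → z * t = t * z → 𝐂[z] ≤ 𝐍((A ⊔ B : Subgroup G))) :
    𝐂[t] ≤ 𝐍((A ⊔ B : Subgroup G)) := by
  have t1 : t ≠ 1 := fun e => h.tA (e ▸ one_mem _)
  have hC := charC hG h.t2 t1
  have tZ := h.normS_Z h.tJ
  -- elements mapping `C_Z(t)` into `N(J)`
  have key : ∀ g ∈ 𝐂[t], (∀ z ∈ A ⊓ B, z * t = t * z → g * z * g⁻¹ ∈ 𝐍((A ⊔ B : Subgroup G))) →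
      g ∈ 𝐍((A ⊔ B : Subgroup G)) := fun g hg k => by
    have k1 : ∀ z ∈ A ⊓ B, z * t = t * z → g * z * g⁻¹ * t = t * (g * z * g⁻¹) := fun z _ e => by
      nth_rewrite 1 [← conj_fix.2 (mem_centralizer_singleton_iff.1 hg)]
      nth_rewrite 2 [← conj_fix.2 (mem_centralizer_singleton_iff.1 hg)]
      rw [conj_mul, conj_mul, e]
    have k2 : ∀ z ∈ A ⊓ B, z * t = t * z → g * z * g⁻¹ ∈ A ⊓ B ∨ g * z * g⁻¹ * t ∈ A ⊓ B :=
      fun z hz e => h.inv_cases (k z hz e) ((h.toTE.cj g).sqA _ (cj_mem g hz.1)) (k1 z hz e)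
    have k3 : ∀ z ∈ A ⊓ B, z ≠ 1 → z * t = t * z → g * z * g⁻¹ ∈ A ⊓ B →
        g ∈ 𝐍((A ⊔ B : Subgroup G)) := fun z hz z1 e m =>
      h.normJ (le_trans (by
        rw [← cj_centralizer_singleton]
        exact cj_mono g fun s hs => mem_centralizer_singleton_iff.2 (h.cen hz hs))
        (hc _ m (mt conj_eq_one_iff.1 z1) (k1 z hz e)))
    obtain ⟨a, ha, b, hb, a1, b1, ab⟩ := exists_two (X := A ⊓ B ⊓ 𝐂[t]) (by
      have := H19.card_le_sq_card_centralizer (E := A ⊓ B) (fun a ha b hb => h.comm ha.1 hb.1)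
        (fun a ha => h.sqA a ha.1) h.t2 fun e he => conj_mem_of_mem_normalizer tZ he
      by_contra c
      have := Nat.pow_le_pow_left (not_lt.1 c) 2
      omega)
    have ca := mem_centralizer_singleton_iff.1 ha.2
    have cb := mem_centralizer_singleton_iff.1 hb.2
    rcases k2 a ha.1 ca with e | e
    · exact k3 a ha.1 a1 ca e
    rcases k2 b hb.1 cb with e' | e'
    · exact k3 b hb.1 b1 cb e'
    refine k3 (a * b⁻¹) (mul_mem ha.1 (inv_mem hb.1)) (mt mul_inv_eq_one.1 ab)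
      (mem_centralizer_singleton_iff.1 (mul_mem ha.2 (inv_mem hb.2))) ?_
    have := mul_mem e (inv_mem e')
    rwa [show g * a * g⁻¹ * t * (g * b * g⁻¹ * t)⁻¹ = g * (a * b⁻¹) * g⁻¹ by group] at this
  obtain ⟨P, hP, hl⟩ := exists_isSylowIn_le (L := 𝐂[t]) ((h.pA.to_le inf_le_left).to_le
    (inf_le_left : A ⊓ B ⊓ 𝐂[t] ≤ _)) inf_le_right
  have PN : P ≤ 𝐍((A ⊔ B : Subgroup G)) := by
    by_contra c
    obtain ⟨y, hy, hyN, n⟩ := H70.exists_mem_normalizer_of_lt hP.isP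
      (lt_of_le_of_ne (inf_le_left : P ⊓ 𝐍((A ⊔ B : Subgroup G)) ≤ P) (mt inf_eq_left.1 c))
    exact hyN ⟨hy, key y (hP.le hy) fun z hz e => (conj_mem_of_mem_normalizer n
      ⟨hl ⟨hz, mem_centralizer_singleton_iff.2 e⟩, le_normalizer (mem_sup_left hz.1)⟩).2⟩
  have RN := hP.pCoreOf_le.trans PN
  refine fun g hg => key g hg fun z hz e => RN (conj_mem_of_mem_normalizer
    (H70.le_normalizer_pCoreOf 2 _ hg) (hC ⟨mem_centralizer_singleton_iff.2 e, fun r hr => ?_⟩))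
  have r2 := El2.of_mem (H70.isPGroup_pCoreOf 2 _) hr
  have rt := mem_centralizer_singleton_iff.1 (H70.pCoreOf_le 2 _ hr)
  by_cases hA : r ∈ 𝐍(A)
  · exact h.cen hz (h.mem (RN hr) hA r2)
  have := h.cen hz (h.mem (mul_mem (RN hr) h.tJ) (h.toTE.sw_mul (RN hr) h.tJ hA h.tA)
    (r2.mul (El2.of_mul_self h.t2) rt))
  rwa [mul_assoc, ← e, ← mul_assoc, ← mul_assoc, mul_left_inj] at this

theorem not_conj (hc : 𝐂[t] ≤ 𝐍((A ⊔ B : Subgroup G))) {x : G} (hx : x ∈ A ⊔ B) (x2 : x * x = 1) :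
    ¬ IsConj x t := by
  intro e
  obtain ⟨g, e⟩ := isConj_iff.1 e
  have k : ∀ E : Subgroup G, (∀ e ∈ E, e * e = 1) → Nat.card A ≤ Nat.card E → t ∉ E :=
    fun E h2 c m => h.tA (h.normA (by
      rcases h.wc (fun s hs => hc (mem_centralizer_singleton_iff.2 (comm2 h2 hs m))) h2 c
        with e | e
      exacts [mem_sup_left (e ▸ m), mem_sup_right (e ▸ m)]))
  rcases h.mem_or hx x2 with m | m
  · exact k _ (h.toTE.cj g).sqA (card_cj A g).ge (e ▸ cj_mem g m)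
  · exact k _ (h.toTE.cj g).sqB (h.card_B.ge.trans (card_cj B g).ge) (e ▸ cj_mem g m)

/-- the final contradiction -/
theorem false (hc : 𝐂[t] ≤ 𝐍((A ⊔ B : Subgroup G))) {n g : G} (n2 : n * n = 1)
    (hg : g * n * g⁻¹ ∈ A ⊔ B) (hn : n ∉ 𝐍((A ⊔ B : Subgroup G))) (hX : n ∈ X) (tX : t ∈ X)
    (ho : ∀ u ∈ X, u ∈ A ⊔ B → u = 1) : False := by
  have ev := H9.even_orderOf_mul_of_not_isConj n2 h.t2 fun e => h.not_conj hc hg
    (by rw [conj_mul, n2]; simp) ((isConj_iff.2 ⟨g, rfl⟩).symm.trans e)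
  obtain ⟨c1, c2⟩ := H9.pow_half_commute n2 h.t2 ev
  have o := H9.orderOf_pow_half ev
  have uX := pow_mem (mul_mem hX tX) (orderOf (n * t) / 2)
  generalize (n * t) ^ (orderOf (n * t) / 2) = u at c1 c2 o uX
  rcases h.inv_cases (hc (mem_centralizer_singleton_iff.2 c2.eq)) (H9.mul_self_of_orderOf_two o)
    c2.eq with e | e
  · exact H9.ne_one_of_orderOf_two o (ho u uX (mem_sup_left e.1))
  · have := ho _ (mul_mem uX tX) (mem_sup_left e.1)
    rw [mul_eq_one_iff_eq_inv, inv_of_sq h.t2] at this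
    exact hn (hc (mem_centralizer_singleton_iff.2 (this ▸ c1.eq.symm)))

end Sw

end H23.PU
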