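import Mathlib
import Cfsg.Agent.Base
import Cfsg.Agent.Lib.TI2.PuA

/-!
# Pushing up in groups of characteristic 2 type, II: natural modules over a central subgroup
-/

set_option autoImplicit false
set_option linter.unusedSectionVars false

namespace H23.PU

open Subgroup Cfsg H69 H45 H55.Two Gold H23.L3 Matrix
open H24 (upT loT)
open scoped commutatorElement MatrixGroups

variable {G : Type*} [Group G] {F : Type*} [Field F]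

theorem sl_mul (m n : SL(2, F)) (i j : Fin 2) : (m * n) i j = m i 0 * n 0 j + m i 1 * n 1 j := by
  simp [SpecialLinearGroup.coe_mul, mul_apply]

theorem sl_inv (m : SL(2, F)) :
    m⁻¹ 0 0 = m 1 1 ∧ m⁻¹ 0 1 = -m 0 1 ∧ m⁻¹ 1 0 = -m 1 0 ∧ m⁻¹ 1 1 = m 0 0 := by
  rw [SpecialLinearGroup.SL2_inv_expl]
  exact ⟨rfl, rfl, rfl, rfl⟩

theorem sl_det (m : SL(2, F)) : m 0 0 * m 1 1 - m 0 1 * m 1 0 = 1 := by
  have hd := m.det_coe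
  rwa [det_fin_two] at hd

theorem sl_vec (m : SL(2, F)) (v : Fin 2 → F) (i : Fin 2) :
    ((m : Matrix (Fin 2) (Fin 2) F) *ᵥ v) i = m i 0 * v 0 + m i 1 * v 1 := by
  simp [mulVec, dotProduct, Fin.sum_univ_two]

theorem vec_ext {u v : Fin 2 → F} (h0 : u 0 = v 0) (h1 : u 1 = v 1) : u = v := by
  ext i; fin_cases i; exacts [h0, h1]

theorem cj_eq_cj_iff {J : Subgroup G} {l l' : G} : J ^ᶜ l' = J ^ᶜ l ↔ l⁻¹ * l' ∈ 𝐍(J) := by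
  rw [← cj_eq_self_iff, ← cj_cj, cj_eq_iff (g := l⁻¹), inv_inv]

/-- `A / C_A(L)` is a natural module for `L / A ≅ SL₂(F)`, and `J / A` is the unitriangular group. -/
structure NK (F : Type*) [Field F] (L A J : Subgroup G) (ρ : G → SL(2, F)) (ψ : G → Fin 2 → F) :
    Prop where
  two : (2 : F) = 0
  sq : ∀ a ∈ A, a * a = 1
  AJ : A ≤ J
  JL : J ≤ L
  nrm : L ≤ 𝐍(A)
  ρ_mul : ∀ x ∈ L, ∀ y ∈ L, ρ (x * y) = ρ x * ρ y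
  ψ_mul : ∀ u ∈ A, ∀ v ∈ A, ψ (u * v) = ψ u + ψ v
  ρ_surj : ∀ m, ∃ x ∈ L, ρ x = m
  ψ_surj : ∀ s, ∃ v ∈ A, ψ v = s
  ψ_ker : ∀ v ∈ A, ψ v = 0 ↔ v ∈ 𝐂(L)
  ρ_ker : ∀ x ∈ L, ρ x = 1 ↔ x ∈ A
  equiv : ∀ x ∈ L, ∀ v ∈ A, ψ (x * v * x⁻¹) = (ρ x : Matrix (Fin 2) (Fin 2) F) *ᵥ ψ v
  hJ : ∀ x ∈ L, x ∈ J ↔ ρ x = upT (ρ x 0 1)

namespace NK

variable {L A J : Subgroup G} {ρ : G → SL(2, F)} {ψ : G → Fin 2 → F} (k : NK F L A J ρ ψ)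
include k

theorem cj (g : G) : NK F (L ^ᶜ g) (A ^ᶜ g) (J ^ᶜ g) (fun x => ρ (g⁻¹ * x * g))
    fun x => ψ (g⁻¹ * x * g) := by
  refine ⟨k.two, fun a ha => ?_, cj_mono g k.AJ, cj_mono g k.JL,
    cj_normalizer A g ▸ cj_mono g k.nrm, fun x hx y hy => ?_, fun x hx y hy => ?_, fun m => ?_,
    fun m => ?_, fun v hv => ?_, fun v hv => ?_, fun x hx v hv => ?_, fun x hx => ?_⟩
  · obtain ⟨a, hb, rfl⟩ := mem_cj'.1 ha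
    rw [conj_mul, k.sq a hb]; simp
  · rw [cj_mul, k.ρ_mul _ (mem_cj.1 hx) _ (mem_cj.1 hy)]
  · rw [cj_mul, k.ψ_mul _ (mem_cj.1 hx) _ (mem_cj.1 hy)]
  · obtain ⟨x, hx, rfl⟩ := k.ρ_surj m
    exact ⟨_, cj_mem g hx, by simp [mul_assoc]⟩
  · obtain ⟨x, hx, rfl⟩ := k.ψ_surj m
    exact ⟨_, cj_mem g hx, by simp [mul_assoc]⟩
  · rw [k.ψ_ker _ (mem_cj.1 hv), ← cj_centralizer, mem_cj]
  · rw [k.ρ_ker _ (mem_cj.1 hv), mem_cj]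
  · rw [← k.equiv _ (mem_cj.1 hx) _ (mem_cj.1 hv)]
    congr 1; group
  · rw [mem_cj, k.hJ _ (mem_cj.1 hx)]

theorem AL : A ≤ L := k.AJ.trans k.JL

theorem add_self (t : F) : t + t = 0 := by rw [← two_mul, k.two, zero_mul]

theorem comm {a b : G} (ha : a ∈ A) (hb : b ∈ A) : a * b = b * a := comm2 k.sq ha hb

theorem ρ_one : ρ 1 = 1 := (k.ρ_ker 1 (one_mem _)).2 (one_mem _)

theorem ρ_inv {x : G} (hx : x ∈ L) : ρ x⁻¹ = (ρ x)⁻¹ := by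
  rw [eq_inv_iff_mul_eq_one, ← k.ρ_mul _ (inv_mem hx) _ hx, inv_mul_cancel, k.ρ_one]

theorem ρ_cj {x y : G} (hx : x ∈ L) (hy : y ∈ L) : ρ (x * y * x⁻¹) = ρ x * ρ y * (ρ x)⁻¹ := by
  rw [k.ρ_mul _ (mul_mem hx hy) _ (inv_mem hx), k.ρ_mul _ hx _ hy, k.ρ_inv hx]

theorem ψ_one : ψ 1 = 0 := (k.ψ_ker 1 (one_mem _)).2 (one_mem _)

theorem ψ_mul' {u v : G} (hu : u ∈ A) (hv : v ∈ A) (i : Fin 2) : ψ (u * v) i = ψ u i + ψ v i := by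
  rw [k.ψ_mul u hu v hv]; rfl

theorem ψ_eq {u v : G} (hu : u ∈ A) (hv : v ∈ A) : ψ u = ψ v ↔ u * v ∈ 𝐂(L) := by
  rw [← k.ψ_ker _ (mul_mem hu hv), k.ψ_mul u hu v hv, add_eq_zero_iff_eq_neg,
    show -ψ v = ψ v from funext fun i => neg_eq_of_add_eq_zero_left (k.add_self _)]

theorem cjA {x a : G} (hx : x ∈ L) (ha : a ∈ A) : x * a * x⁻¹ ∈ A :=
  conj_mem_of_mem_normalizer (k.nrm hx) ha

theorem ψ_cj {x a : G} (hx : x ∈ L) (ha : a ∈ A) (i : Fin 2) :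
    ψ (x * a * x⁻¹) i = ρ x i 0 * ψ a 0 + ρ x i 1 * ψ a 1 := by
  rw [k.equiv x hx a ha, sl_vec]

theorem mem_iff {x : G} (hx : x ∈ L) : x ∈ J ↔ ρ x 0 0 = 1 ∧ ρ x 1 0 = 0 := by
  rw [k.hJ x hx]
  exact ⟨fun e => by rw [e]; exact ⟨rfl, rfl⟩, fun e => sl_up one_ne_zero
    (vec_ext (by simp [sl_vec, e.1]) (by simp [sl_vec, e.2]))⟩

theorem up {b : G} (hb : b ∈ J) : ρ b 0 0 = 1 ∧ ρ b 1 0 = 0 ∧ ρ b 1 1 = 1 := by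
  rw [(k.hJ b (k.JL hb)).1 hb]; exact ⟨rfl, rfl, rfl⟩

theorem memA {b : G} (hb : b ∈ J) : ρ b 0 1 = 0 ↔ b ∈ A := by
  rw [← k.ρ_ker b (k.JL hb)]
  exact ⟨fun e => by rw [(k.hJ b (k.JL hb)).1 hb, e, H24.upT_zero], fun e => by rw [e]; rfl⟩

theorem exJ (c : F) : ∃ b ∈ J, ρ b 0 1 = c := by
  obtain ⟨b, hb, e⟩ := k.ρ_surj (upT c)
  exact ⟨b, (k.hJ b hb).2 (by rw [e]; rfl), by rw [e]; rfl⟩

theorem c_mul {u v : G} (hu : u ∈ J) (hv : v ∈ J) : ρ (u * v) 0 1 = ρ u 0 1 + ρ v 0 1 := by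
  rw [k.ρ_mul u (k.JL hu) v (k.JL hv), sl_mul, (k.up hu).1, (k.up hv).2.2]; ring

theorem ψ_up {b a : G} (hb : b ∈ J) (ha : a ∈ A) :
    ψ ⁅b, a⁆ 0 = ρ b 0 1 * ψ a 1 ∧ ψ ⁅b, a⁆ 1 = 0 := by
  obtain ⟨e1, e2, e3⟩ := k.up hb
  simp only [commutatorElement_def, inv_of_sq (k.sq a ha), k.ψ_mul' (k.cjA (k.JL hb) ha) ha,
    k.ψ_cj (k.JL hb) ha, e1, e2, e3]
  constructor
  · linear_combination k.add_self (ψ a 0)
  · linear_combination k.add_self (ψ a 1)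

theorem sqJ {b : G} (hb : b ∈ J) : b * b ∈ A :=
  (k.memA (mul_mem hb hb)).1 (by rw [k.c_mul hb hb, k.add_self])

theorem pJ : IsPGroup 2 J := isPGroup_iff_mem.2 fun x hx => ⟨2, by
  rw [← k.sq _ (k.sqJ hx)]
  simp only [← pow_two, ← pow_mul]⟩

theorem pA : IsPGroup 2 A := k.pJ.to_le k.AJ

variable [Finite G]

theorem nJ {x : G} (hx : x ∈ L) : x ∈ 𝐍(J) ↔ ρ x 1 0 = 0 := by
  have key : ∀ b ∈ J, x * b * x⁻¹ ∈ J ↔ ρ x 0 0 * ρ b 0 1 * ρ x 1 0 = 0 ∧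
      ρ x 1 0 * ρ b 0 1 * ρ x 1 0 = 0 := fun b hb => by
    obtain ⟨e1, e2, e3⟩ := k.up hb
    obtain ⟨i1, -, i3, -⟩ := sl_inv (ρ x)
    have d := sl_det (ρ x)
    simp only [k.mem_iff (mul_mem (mul_mem hx (k.JL hb)) (inv_mem hx)), k.ρ_cj hx (k.JL hb), sl_mul,
      e1, e2, e3, i1, i3]
    exact and_congr ⟨fun e => by linear_combination d - e, fun e => by linear_combination d - e⟩
      ⟨fun e => by linear_combination -e, fun e => by linear_combination -e⟩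
  refine ⟨fun e => ?_, fun e => mem_normalizer_of_cj_le fun s hs => ?_⟩
  · obtain ⟨b, hb, e1⟩ := k.exJ 1
    simpa [e1] using ((key b hb).1 (conj_mem_of_mem_normalizer e hb)).2
  · obtain ⟨b, hb, rfl⟩ := mem_cj'.1 hs
    simp [key b hb, e]

theorem nJ' {x l : G} (hx : x ∈ L) (hl : l ∈ L) : x ∈ 𝐍(J ^ᶜ l) ↔
    ρ l 0 0 * (ρ x 1 0 * ρ l 0 0 + ρ x 1 1 * ρ l 1 0) =
      ρ l 1 0 * (ρ x 0 0 * ρ l 0 0 + ρ x 0 1 * ρ l 1 0) := by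
  obtain ⟨-, -, i3, i4⟩ := sl_inv (ρ l)
  rw [← cj_normalizer, mem_cj, k.nJ (mul_mem (mul_mem (inv_mem hl) hx) hl),
    k.ρ_mul _ (mul_mem (inv_mem hl) hx) _ hl, k.ρ_mul _ (inv_mem hl) _ hx, k.ρ_inv hl]
  simp only [sl_mul, i3, i4]
  exact ⟨fun e => by linear_combination e, fun e => by linear_combination e⟩

theorem ne_one {x : G} (hx : x ∈ L) (hn : x ∈ 𝐍(J)) (hJ : x ∉ J) :
    ρ x 1 0 = 0 ∧ ρ x 0 0 * ρ x 1 1 = 1 ∧ ρ x 0 0 ≠ 1 ∧ ρ x 1 1 ≠ 1 ∧ ρ x 0 0 ≠ ρ x 1 1 := by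
  have e := (k.nJ hx).1 hn
  have d := sl_det (ρ x)
  rw [e, mul_zero, sub_zero] at d
  have h1 : ρ x 0 0 ≠ 1 := fun c => hJ ((k.mem_iff hx).2 ⟨c, e⟩)
  refine ⟨e, d, h1, fun c => h1 (by rwa [c, mul_one] at d), fun c => h1 ?_⟩
  rw [← c] at d
  have : (ρ x 0 0 - 1) ^ 2 = 0 := by linear_combination d - k.add_self (ρ x 0 0 - 1)
  exact sub_eq_zero.1 (pow_eq_zero_iff two_ne_zero |>.1 this)

theorem mem2 {x : G} (hx : x ∈ L) (hn : x ∈ 𝐍(J)) (h2 : El2 x) : x ∈ J := by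
  obtain ⟨n, h2⟩ := h2
  induction n generalizing x with
  | zero => rw [pow_zero, pow_one] at h2; exact h2 ▸ one_mem _
  | succ n ih =>
    by_contra c
    obtain ⟨e, d, -, -, h⟩ := k.ne_one hx hn c
    have := ((k.mem_iff (mul_mem hx hx)).1 (ih (mul_mem hx hx) (mul_mem hn hn)
      (by rw [← pow_two, ← pow_mul, ← pow_succ', h2]))).1
    rw [k.ρ_mul x hx x hx, sl_mul, e, mul_zero, add_zero] at this
    exact h (mul_left_cancel₀ (left_ne_zero_of_mul_eq_one d) (this.trans d.symm))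

theorem syl : IsSylowIn 2 J L :=
  isSylowIn_of_normalizer k.JL ⟨le_inf k.JL le_normalizer, k.pJ, fun _ h1 h2 h3 =>
    le_antisymm (fun _ hx => k.mem2 (h2 hx).1 (h2 hx).2 (El2.of_mem h3 hx)) h1⟩

theorem ti {l x : G} (hl : l ∈ L) (hn : l ∉ 𝐍(J)) (hx : x ∈ J) (h : x ∈ 𝐍(J ^ᶜ l)) : x ∈ A := by
  obtain ⟨e1, e2, e3⟩ := k.up hx
  rw [k.nJ' (k.JL hx) hl, e1, e2, e3] at h
  rw [k.nJ hl] at hn
  have : ρ x 0 1 * (ρ l 1 0 * ρ l 1 0) = 0 := by linear_combination -h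
  exact (k.memA hx).1 ((mul_eq_zero.1 this).resolve_right (mul_ne_zero hn hn))

theorem two_fix {x : G} (hx : x ∈ L) (hn : x ∈ 𝐍(J)) (hJ : x ∉ J) :
    ∃ l ∈ L, l ∉ 𝐍(J) ∧ x ∈ 𝐍(J ^ᶜ l) ∧
      ∀ l' ∈ L, l' ∉ 𝐍(J) → x ∈ 𝐍(J ^ᶜ l') → J ^ᶜ l' = J ^ᶜ l := by
  obtain ⟨e, -, -, -, h⟩ := k.ne_one hx hn hJ
  have h' := sub_ne_zero.2 h.symm
  obtain ⟨l, hl, e1⟩ := k.ρ_surj (upT (ρ x 0 1 / (ρ x 1 1 - ρ x 0 0) - 1) * loT 1)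
  have e2 : ρ l 0 0 = ρ x 0 1 / (ρ x 1 1 - ρ x 0 0) := by simp [e1, sl_mul]
  have e3 : ρ l 1 0 = 1 := by simp [e1, sl_mul]
  refine ⟨l, hl, by simp [k.nJ hl, e3], ?_, fun l' hl' hn' h1 => ?_⟩
  · rw [k.nJ' hx hl, e, e2, e3]; field_simp; ring
  · rw [k.nJ' hx hl', e] at h1
    rw [k.nJ hl'] at hn'
    obtain ⟨-, -, i3, i4⟩ := sl_inv (ρ l)
    rw [cj_eq_cj_iff, k.nJ (mul_mem (inv_mem hl) hl'), k.ρ_mul _ (inv_mem hl) _ hl', k.ρ_inv hl,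
      sl_mul, i3, i4, e2, e3]
    have h2 : ρ l' 0 0 * (ρ x 1 1 - ρ x 0 0) = ρ x 0 1 * ρ l' 1 0 :=
      mul_left_cancel₀ hn' (by linear_combination h1)
    field_simp
    linear_combination -h2

theorem fpA {x b : G} (hx : x ∈ L) (hn : x ∈ 𝐍(J)) (hJ : x ∉ J) (hb : b ∈ J) (h : ⁅x, b⁆ ∈ A) :
    b ∈ A := by
  obtain ⟨e, d, -, -, h1⟩ := k.ne_one hx hn hJ
  obtain ⟨e1, e2, e3⟩ := k.up hb
  have hL := k.JL hb
  rw [← k.ρ_ker _ (k.AL h), commutatorElement_def, k.ρ_mul _ (mul_mem (mul_mem hx hL) (inv_mem hx))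
    _ (inv_mem hL), k.ρ_cj hx hL, k.ρ_inv hL, mul_inv_eq_one, mul_inv_eq_iff_eq_mul] at h
  have := congrArg (fun m : SL(2, F) => m 0 1) h
  simp only [sl_mul, e1, e3] at this
  have h2 : ρ b 0 1 * (ρ x 0 0 - ρ x 1 1) = 0 := by linear_combination this
  exact (k.memA hb).1 ((mul_eq_zero.1 h2).resolve_right (sub_ne_zero.2 h1))

theorem fpD {x a : G} (hx : x ∈ L) (hn : x ∈ 𝐍(J)) (hJ : x ∉ J) (ha : a ∈ A)
    (h : x * a * x⁻¹ * a ∈ 𝐂(L)) : a ∈ 𝐂(L) := by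
  obtain ⟨e, d, h0, h1, -⟩ := k.ne_one hx hn hJ
  rw [← k.ψ_eq (k.cjA hx ha) ha] at h
  have a1 := k.ψ_cj hx ha 1
  have a0 := k.ψ_cj hx ha 0
  rw [h, e] at a1
  have b1 : ψ a 1 = 0 := (mul_eq_zero.1 (show (ρ x 1 1 - 1) * ψ a 1 = 0 by
    linear_combination -a1)).resolve_left (sub_ne_zero.2 h1)
  rw [h, b1] at a0
  exact (k.ψ_ker a ha).1 (vec_ext ((mul_eq_zero.1 (show (ρ x 0 0 - 1) * ψ a 0 = 0 by
    linear_combination -a0)).resolve_left (sub_ne_zero.2 h0)) b1)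

theorem stab {x z : G} (hx : x ∈ L) (hz : z ∈ A) (hC : z ∉ 𝐂(L)) (h1 : ψ z 1 = 0)
    (h2 : ψ (x * z * x⁻¹) 1 = 0) : x ∈ 𝐍(J) := by
  rw [k.ψ_cj hx hz, h1, mul_zero, add_zero] at h2
  exact (k.nJ hx).2 ((mul_eq_zero.1 h2).resolve_right fun e =>
    hC ((k.ψ_ker z hz).1 (vec_ext e h1)))

theorem tr {a a' : G} (ha : a ∈ A) (ha' : a' ∈ A) (h1 : a ∉ 𝐂(L)) (h1' : a' ∉ 𝐂(L)) :
    ∃ l ∈ L, ψ (l * a * l⁻¹) = ψ a' := by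
  obtain ⟨m, hm⟩ := H68.Push.exists_sl_mulVec (mt (k.ψ_ker a ha).1 h1) (mt (k.ψ_ker a' ha').1 h1')
  obtain ⟨l, hl, rfl⟩ := k.ρ_surj m
  exact ⟨l, hl, by rw [k.equiv l hl a ha, hm]⟩

theorem exZ (t : F) : ∃ z ∈ A, ψ z 0 = t ∧ ψ z 1 = 0 := by
  obtain ⟨z, hz, e⟩ := k.ψ_surj ![t, 0]
  exact ⟨z, hz, by rw [e]; rfl, by rw [e]; rfl⟩

theorem exA (t : F) : ∃ z ∈ A, ψ z 1 = t := by
  obtain ⟨z, hz, e⟩ := k.ψ_surj ![0, t]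
  exact ⟨z, hz, by rw [e]; rfl⟩

theorem nC {z : G} (hz : z ∈ A) {i : Fin 2} (h : ψ z i ≠ 0) : z ∉ 𝐂(L) :=
  fun e => h (by rw [(k.ψ_ker z hz).2 e]; rfl)

theorem exθ [Finite F] (hq : 2 < Nat.card F) : ∃ x ∈ L, x ∈ 𝐍(J) ∧ x ∉ J := by
  classical
  haveI := Fintype.ofFinite F
  obtain ⟨t, -, ht⟩ := Finset.exists_mem_notMem_of_card_lt_card (s := {0, (1 : F)})
    (t := Finset.univ) (Finset.card_le_two.trans_lt (by rwa [Nat.card_eq_fintype_card] at hq))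
  obtain ⟨z, hz, e0, e1⟩ := k.exZ 1
  obtain ⟨w, hw, f0, f1⟩ := k.exZ t
  have zC := k.nC hz (e0 ▸ one_ne_zero)
  obtain ⟨l, hl, e⟩ := k.tr hz hw zC (k.nC hw (i := 0) fun c => ht (by simp [← f0, c]))
  refine ⟨l, hl, k.stab hl hz zC e1 (by rw [e, f1]), fun c => ht ?_⟩
  have := k.ψ_cj hl hz 0
  rw [e, f0, e0, e1, (k.up c).1] at this
  simp [this]

theorem spl {l a : G} (hl : l ∈ L) (hn : l ∉ 𝐍(J)) (ha : a ∈ A) :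
    ∃ z ∈ A, ψ z 1 = 0 ∧ ψ (a * (l * z * l⁻¹)) 1 = 0 := by
  rw [k.nJ hl] at hn
  obtain ⟨z, hz, e0, e1⟩ := k.exZ (ψ a 1 / ρ l 1 0)
  refine ⟨z, hz, e1, ?_⟩
  rw [k.ψ_mul' ha (k.cjA hl hz), k.ψ_cj hl hz, e0, e1, mul_div_cancel₀ _ hn, mul_zero, add_zero,
    k.add_self]

theorem gen : ∃ l ∈ L, l ∉ 𝐍(J) ∧ L ≤ J ⊔ J ^ᶜ l := by
  obtain ⟨l, hl, e⟩ := k.ρ_surj (upT 1 * loT (-1) * upT 1)
  refine ⟨l, hl, by simp [k.nJ hl, e, sl_mul], fun x hx => ?_⟩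
  let ρH : L →* SL(2, F) := MonoidHom.mk' (fun x => ρ x) fun x y => k.ρ_mul x x.2 y y.2
  have m : ∀ s, ∃ b ∈ J, ρ b = upT s := fun s => by
    obtain ⟨b, hb, rfl⟩ := k.exJ s
    exact ⟨b, hb, (k.hJ b (k.JL hb)).1 hb⟩
  obtain ⟨x', hx', e'⟩ := (H24.eq_top_of_upT_loT
    (M := ((J ⊔ J ^ᶜ l).subgroupOf L).map ρH) (fun s => by
      obtain ⟨b, hb, e⟩ := m s
      exact ⟨⟨b, k.JL hb⟩, mem_sup_left hb, e⟩) fun s => by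
      obtain ⟨b, hb, e'⟩ := m (-s)
      refine ⟨⟨l * b * l⁻¹, mul_mem (mul_mem hl (k.JL hb)) (inv_mem hl)⟩,
        mem_sup_right (cj_mem l hb), ?_⟩
      change ρ (l * b * l⁻¹) = _
      rw [k.ρ_cj hl (k.JL hb), mul_inv_eq_iff_eq_mul, e, e']
      ext i j
      fin_cases i <;> fin_cases j <;> simp [sl_mul]).ge (mem_top (ρ x))
  have := (k.ρ_ker _ (mul_mem hx (inv_mem x'.2))).1 (by
    rw [k.ρ_mul x hx _ (inv_mem x'.2), k.ρ_inv x'.2, ← e']; exact mul_inv_cancel _)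
  simpa using mul_mem (mem_sup_left (k.AJ this)) hx'

/-- the preimage of the fixed line -/
def Z : Subgroup G where
  carrier := {a | a ∈ A ∧ ψ a 1 = 0}
  mul_mem' ha hb := ⟨mul_mem ha.1 hb.1, by rw [k.ψ_mul' ha.1 hb.1, ha.2, hb.2, add_zero]⟩
  one_mem' := ⟨one_mem _, by rw [k.ψ_one]; rfl⟩
  inv_mem' ha := by rwa [inv_of_sq (k.sq _ ha.1)]

theorem card_A : Nat.card A = Nat.card F * Nat.card k.Z := by
  rw [card_coord (Y := k.Z) (f := fun a => ψ a 1) (fun u hu v hv => k.ψ_mul' hu hv 1)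
    fun u hu => (and_iff_right hu).symm, Set.eq_univ_of_forall (s := _ '' _) k.exA, Set.ncard_univ,
    inf_eq_right.2 fun _ h => h.1]

theorem ψ_cj_eq {m u v : G} (hL : m ∈ 𝐍(L)) (hA : m ∈ 𝐍(A)) (hu : u ∈ A) (hv : v ∈ A)
    (e : ψ u = ψ v) : ψ (m * u * m⁻¹) = ψ (m * v * m⁻¹) := by
  rw [k.ψ_eq (conj_mem_of_mem_normalizer hA hu) (conj_mem_of_mem_normalizer hA hv), conj_mul]
  exact conj_mem_of_mem_normalizer (normalizer_le_normalizer_centralizer L hL) ((k.ψ_eq hu hv).1 e)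

theorem ker {w x : G} (hL : w ∈ 𝐍(L)) (hA : w ∈ 𝐍(A)) (h : ∀ a ∈ A, ψ (w * a * w⁻¹) = ψ a)
    (hx : x ∈ L) : w * x * w⁻¹ * x⁻¹ ∈ A := by
  have m := conj_mem_of_mem_normalizer hL hx
  rw [← k.ρ_ker _ (mul_mem m (inv_mem hx)), k.ρ_mul _ m _ (inv_mem hx), k.ρ_inv hx, mul_inv_eq_one]
  refine H68.Push.sl_eq_of_mulVec fun s => ?_
  obtain ⟨a, ha, rfl⟩ := k.ψ_surj s
  rw [← k.equiv x hx a ha, ← h _ (k.cjA hx ha), ← h a ha,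
    ← k.equiv _ m _ (conj_mem_of_mem_normalizer hA ha)]
  congr 1; group

theorem F1 {m : G} (hL : m ∈ 𝐍(L)) (hA : m ∈ 𝐍(A)) (h1 : ∀ a ∈ A, ψ (m * a * m⁻¹) 1 = ψ a 1)
    (h2 : ∀ z ∈ A, ψ z 1 = 0 → ψ (m * z * m⁻¹) = ψ z) :
    ∃ b ∈ J, ∀ a ∈ A, ψ (b * m * a * (b * m)⁻¹) = ψ a := by
  obtain ⟨a0, ha0, e0⟩ := k.exA 1
  obtain ⟨b, hb, eb⟩ := k.exJ (ψ (m * a0 * m⁻¹) 0 + ψ a0 0)
  obtain ⟨u1, u2, u3⟩ := k.up hb
  have mA : ∀ a ∈ A, m * a * m⁻¹ ∈ A := fun a ha => conj_mem_of_mem_normalizer hA ha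
  have f : ∀ a ∈ A, ∀ i, ψ (b * m * a * (b * m)⁻¹) i =
      ρ b i 0 * ψ (m * a * m⁻¹) 0 + ρ b i 1 * ψ a 1 := fun a ha i => by
    rw [← h1 a ha, ← k.ψ_cj (k.JL hb) (mA a ha)]; congr 1; group
  refine ⟨b, hb, ?_⟩
  have wL : b * m ∈ 𝐍(L) := mul_mem (le_normalizer (k.JL hb)) hL
  have wA : b * m ∈ 𝐍(A) := mul_mem (k.nrm (k.JL hb)) hA
  have f0 : ψ (b * m * a0 * (b * m)⁻¹) = ψ a0 := vec_ext
    (by rw [f a0 ha0, u1, eb, e0]; linear_combination k.add_self (ψ (m * a0 * m⁻¹) 0))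
    (by rw [f a0 ha0, u2, u3]; ring)
  have fZ : ∀ z ∈ A, ψ z 1 = 0 → ψ (b * m * z * (b * m)⁻¹) = ψ z := fun z hz e => vec_ext
    (by rw [f z hz, h2 z hz e, u1, e]; ring) (by rw [f z hz, u2, e]; ring)
  generalize b * m = w at *
  obtain ⟨z0, hz0, g0, g1⟩ := k.exZ 1
  obtain ⟨l, hl, el⟩ := k.tr hz0 ha0 (k.nC hz0 (g0 ▸ one_ne_zero)) (k.nC ha0 (e0 ▸ one_ne_zero))
  have hl' := conj_mem_of_mem_normalizer wL hl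
  have g : ∀ z ∈ A, ψ z 1 = 0 → ∀ i, ψ (w * (l * z * l⁻¹) * w⁻¹) i = ρ (w * l * w⁻¹) i 0 * ψ z 0 :=
    fun z hz e i => by
      have := k.ψ_cj hl' (conj_mem_of_mem_normalizer wA hz) i
      rw [fZ z hz e, e, mul_zero, add_zero] at this
      rw [← this]; congr 1; group
  have g' : ∀ i, ρ (w * l * w⁻¹) i 0 = ρ l i 0 := fun i => by
    have := g z0 hz0 g1 i
    rw [k.ψ_cj_eq wL wA (k.cjA hl hz0) ha0 el, f0, ← el, k.ψ_cj hl hz0, g0, g1] at this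
    linear_combination -this
  intro a ha
  obtain ⟨z, hz, e1, e2⟩ := k.spl hl (fun c => by
    have := k.ψ_cj hl hz0 1
    rw [el, e0, (k.nJ hl).1 c, g1] at this
    simp at this) ha
  have m1 := k.cjA hl hz
  have := fZ _ (mul_mem ha m1) e2
  rwa [← conj_mul, k.ψ_mul _ (conj_mem_of_mem_normalizer wA ha) _ (conj_mem_of_mem_normalizer wA m1),
    k.ψ_mul a ha _ m1, show ψ (w * (l * z * l⁻¹) * w⁻¹) = ψ (l * z * l⁻¹) from funext fun i => by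
      rw [g z hz e1, g', k.ψ_cj hl hz, e1, mul_zero, add_zero], add_left_inj] at this

theorem exc {a z : G} (ha : a ∈ A) (h : ψ a 1 ≠ 0) (e : ψ z 1 = 0) : ∃ b ∈ J, ψ ⁅b, a⁆ = ψ z := by
  obtain ⟨b, hb, eb⟩ := k.exJ (ψ z 0 / ψ a 1)
  exact ⟨b, hb, vec_ext (by rw [(k.ψ_up hb ha).1, eb, div_mul_cancel₀ _ h])
    (by rw [(k.ψ_up hb ha).2, e])⟩

theorem exc' {b z : G} (hb : b ∈ J) (h : b ∉ A) (e : ψ z 1 = 0) : ∃ a ∈ A, ψ ⁅b, a⁆ = ψ z := by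
  obtain ⟨a, ha, ea⟩ := k.exA (ψ z 0 / ρ b 0 1)
  exact ⟨a, ha, vec_ext (by rw [(k.ψ_up hb ha).1, ea, mul_div_cancel₀ _ (mt (k.memA hb).1 h)])
    (by rw [(k.ψ_up hb ha).2, e])⟩

theorem F2 {m : G} (hL : m ∈ 𝐍(L)) (hA : m ∈ 𝐍(A)) (h2 : El2 m) (h : ∀ b ∈ J, ⁅m, b⁆ ∈ A) :
    ∃ b ∈ J, ∀ a ∈ A, ψ (b * m * a * (b * m)⁻¹) = ψ a := by
  have hx : zpowers m ≤ 𝐍(A) := zpowers_le.2 hA
  have mA : ∀ a ∈ A, m * a * m⁻¹ ∈ A := fun a ha => conj_mem_of_mem_normalizer hA ha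
  have cA : ∀ b ∈ J, ∀ a ∈ A, ⁅b, a⁆ ∈ A := fun b hb a ha => cm_right (k.nrm (k.JL hb)) ha
  obtain ⟨a0, ha0, h0, e⟩ := H57.exists_fixed_mod_of_isPGroup (N := k.Z)
    (isPGroup_sup_of_le_normalizer_left k.pA h2.isPGroup hx) le_sup_left le_sup_right hx fun c => by
      obtain ⟨a, ha, e⟩ := k.exA 1
      exact one_ne_zero (e.symm.trans (c ha).2)
  replace h0 : ψ a0 1 ≠ 0 := fun c => h0 ⟨ha0, c⟩
  have e0 : ψ (m * a0 * m⁻¹) 1 = ψ a0 1 := by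
    have := (e m (mem_zpowers m)).2
    rw [commutatorElement_def, inv_of_sq (k.sq _ ha0), mul_assoc, mul_assoc, ← mul_assoc m,
      k.ψ_mul' ha0 (mA _ ha0)] at this
    linear_combination this - k.add_self (ψ a0 1)
  have f : ∀ b ∈ J, ∀ a ∈ A, ψ (m * ⁅b, a⁆ * m⁻¹) 0 = ρ b 0 1 * ψ (m * a * m⁻¹) 1 ∧
      ψ (m * ⁅b, a⁆ * m⁻¹) 1 = 0 := fun b hb a ha => by
    have e1 : m * b * m⁻¹ = ⁅m, b⁆ * b := by rw [commutatorElement_def]; group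
    have := k.ψ_up (mul_mem (k.AJ (h b hb)) hb) (mA a ha)
    rwa [k.c_mul (k.AJ (h b hb)) hb, (k.memA (k.AJ (h b hb))).2 (h b hb), zero_add, ← e1,
      ← conj_cm] at this
  have fZ : ∀ z ∈ A, ψ z 1 = 0 → ψ (m * z * m⁻¹) = ψ z := fun z hz e => by
    obtain ⟨b, hb, eb⟩ := k.exc ha0 h0 e
    rw [← k.ψ_cj_eq hL hA (cA b hb a0 ha0) hz eb, ← eb]
    exact vec_ext (by rw [(f b hb a0 ha0).1, e0, (k.ψ_up hb ha0).1])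
      (by rw [(f b hb a0 ha0).2, (k.ψ_up hb ha0).2])
  refine k.F1 hL hA (fun a ha => ?_) fZ
  obtain ⟨b, hb, eb⟩ := k.exJ 1
  have := (f b hb a ha).1
  rwa [fZ _ (cA b hb a ha) (k.ψ_up hb ha).2, (k.ψ_up hb ha).1, eb, one_mul, one_mul, eq_comm] at this

theorem dec {y : G} (hy : y ∈ 𝐂(J)) (h : ∀ l ∈ L, ⁅l, y⁆ ∈ A)
    (hZ : ∀ z ∈ A, ψ z 1 = 0 → z ∈ 𝐂(J)) : ∃ a ∈ A, a * y ∈ 𝐂(L) := by
  obtain ⟨l, hl, hn, e⟩ := k.gen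
  obtain ⟨z, hz, e0, e1⟩ := k.spl hl hn (h l hl)
  have m := k.cjA hl hz
  refine ⟨_, mul_mem (h l hl) m, centralizer_anti e ?_⟩
  rw [H69.centralizer_sup]
  refine ⟨mul_mem (hZ _ (mul_mem (h l hl) m) e1) hy, ?_⟩
  rw [← cj_centralizer, k.comm (h l hl) m, show l * z * l⁻¹ * ⁅l, y⁆ * y = l * (z * y) * l⁻¹ by
    rw [commutatorElement_def]; group]
  exact cj_mem l (mul_mem (hZ z hz e0) hy)

theorem ext {D : Subgroup G} (hD : D ≤ 𝐂(L)) (h2 : ∀ d ∈ D, d * d = 1) :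
    ∃ ρ' ψ', NK F (L ⊔ D) (A ⊔ D) (J ⊔ D) ρ' ψ' := by
  classical
  have nD : ∀ X ≤ L, D ≤ 𝐍(X) := fun X hX =>
    le_normalizer_of_le_centralizer (hD.trans (centralizer_anti hX))
  have dc : ∀ X ≤ L, ∀ x, x ∈ X ⊔ D ↔ ∃ a ∈ X, ∃ d ∈ D, x = a * d := fun X hX x =>
    mem_sup_of_le_normalizer_left (nD X hX)
  let κ : G → G := fun x => if h : x ∈ L ⊔ D then ((dc L le_rfl x).1 h).choose else 1
  have hκ : ∀ x ∈ L, ∀ d ∈ D, ∃ c ∈ A, c ∈ D ∧ κ (x * d) = x * c := fun x hx d hd => by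
    have m := (dc L le_rfl _).2 ⟨x, hx, d, hd, rfl⟩
    obtain ⟨h1, d', hd', e⟩ := ((dc L le_rfl _).1 m).choose_spec
    simp only [κ, dif_pos m]
    generalize ((dc L le_rfl _).1 m).choose = y at *
    have e' : d * d'⁻¹ = x⁻¹ * y := by rw [eq_inv_mul_iff_mul_eq, ← mul_assoc, e]; simp
    have m1 := mul_mem hd (inv_mem hd')
    have m2 : d * d'⁻¹ ∈ L := e' ▸ mul_mem (inv_mem hx) h1
    refine ⟨_, (k.ρ_ker _ m2).1 (H68.Push.sl_eq_of_mulVec fun s => ?_), m1, by simp [e']⟩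
    obtain ⟨a, ha, rfl⟩ := k.ψ_surj s
    rw [← k.equiv _ m2 a ha, conj_eq_of_mem_centralizer (hD m1) (k.AL ha)]; simp
  have hρ : ∀ x ∈ L, ∀ d ∈ D, ρ (κ (x * d)) = ρ x := fun x hx d hd => by
    obtain ⟨c, h1, -, e⟩ := hκ x hx d hd
    rw [e, k.ρ_mul x hx c (k.AL h1), (k.ρ_ker c (k.AL h1)).2 h1, mul_one]
  have hψ : ∀ x ∈ A, ∀ d ∈ D, ψ (κ (x * d)) = ψ x := fun x hx d hd => by
    obtain ⟨c, h1, h2, e⟩ := hκ x (k.AL hx) d hd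
    rw [e, k.ψ_mul x hx c h1, (k.ψ_ker c h1).2 (hD h2), add_zero]
  have mm : ∀ x d, ∀ y ∈ L, ∀ d', d ∈ D → x * d * (y * d') = x * y * (d * d') :=
    fun x d y hy d' hd => by rw [mul_assoc, ← mul_assoc d, ← hD hd y hy]; group
  have DD : D ≤ 𝐂(D) := fun d hd e he => comm2 h2 he hd
  refine ⟨fun x => ρ (κ x), fun x => ψ (κ x), k.two, fun a ha => ?_, sup_le_sup_right k.AJ D,
    sup_le_sup_right k.JL D, sup_le (H69.le_normalizer_sup k.nrm (le_normalizer_of_le_centralizer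
      (le_centralizer_iff.1 hD))) (le_normalizer_of_le le_sup_right), fun x gx y gy => ?_,
    fun x gx y gy => ?_, fun m => ?_, fun m => ?_, fun x gx => ?_, fun x gx => ?_,
    fun x gx y gy => ?_, fun x gx => ?_⟩
  · obtain ⟨x, hx, d, hd, rfl⟩ := (dc A k.AL _).1 ha
    rw [mm _ _ _ (k.AL hx) _ hd, k.sq x hx, h2 d hd, one_mul]
  · obtain ⟨x, hx, d, hd, rfl⟩ := (dc L le_rfl _).1 gx
    obtain ⟨y, hy, d', hd', rfl⟩ := (dc L le_rfl _).1 gy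
    rw [mm _ _ _ hy _ hd, hρ _ (mul_mem hx hy) _ (mul_mem hd hd'), hρ x hx d hd, hρ y hy d' hd',
      k.ρ_mul x hx y hy]
  · obtain ⟨x, hx, d, hd, rfl⟩ := (dc A k.AL _).1 gx
    obtain ⟨y, hy, d', hd', rfl⟩ := (dc A k.AL _).1 gy
    rw [mm _ _ _ (k.AL hy) _ hd, hψ _ (mul_mem hx hy) _ (mul_mem hd hd'), hψ x hx d hd,
      hψ y hy d' hd', k.ψ_mul x hx y hy]
  · obtain ⟨x, hx, rfl⟩ := k.ρ_surj m
    exact ⟨x * 1, mul_mem_sup hx (one_mem _), hρ x hx 1 (one_mem _)⟩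
  · obtain ⟨x, hx, rfl⟩ := k.ψ_surj m
    exact ⟨x * 1, mul_mem_sup hx (one_mem _), hψ x hx 1 (one_mem _)⟩
  · obtain ⟨x, hx, d, hd, rfl⟩ := (dc A k.AL _).1 gx
    rw [hψ x hx d hd, k.ψ_ker x hx, H69.centralizer_sup, mem_inf, mul_mem_cancel_right (hD hd),
      and_iff_left (mul_mem (le_centralizer_iff.1 hD (k.AL hx)) (DD hd))]
  · obtain ⟨x, hx, d, hd, rfl⟩ := (dc L le_rfl _).1 gx
    rw [hρ x hx d hd]
    refine ⟨fun e => mul_mem_sup ((k.ρ_ker x hx).1 e) hd, fun e => ?_⟩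
    obtain ⟨a, ha, d', hd', e⟩ := (dc A k.AL _).1 e
    rw [← hρ x hx d hd, e, hρ a (k.AL ha) d' hd', k.ρ_ker a (k.AL ha)]; exact ha
  · obtain ⟨x, hx, d, hd, rfl⟩ := (dc L le_rfl _).1 gx
    obtain ⟨y, hy, d', hd', rfl⟩ := (dc A k.AL _).1 gy
    rw [hρ x hx d hd, hψ y hy d' hd', ← k.equiv x hx y hy, ← hψ _ (k.cjA hx hy) d' hd']
    congr 2
    rw [mm _ _ _ (k.AL hy) _ hd, comm2 h2 hd hd', mul_assoc (x * y) x⁻¹, hD hd' _ (inv_mem hx)]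
    group
  · obtain ⟨x, hx, d, hd, rfl⟩ := (dc L le_rfl _).1 gx
    rw [hρ x hx d hd]
    refine ⟨fun e => ?_, fun e => mul_mem_sup ((k.hJ x hx).2 e) hd⟩
    obtain ⟨a, ha, d', hd', e⟩ := (dc J k.JL _).1 e
    rw [← hρ x hx d hd, e, hρ a (k.JL ha) d' hd', ← k.hJ a (k.JL ha)]; exact ha

end NK

end H23.PU
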