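import Mathlib
import Cfsg.Agent.Base
import Cfsg.Agent.Lib.TI2.PuB

/-!
# Pushing up in groups of characteristic 2 type, III: the torus
-/

set_option autoImplicit false
set_option linter.unusedSectionVars false

namespace H23.PU

open Subgroup Cfsg H69 H45 H55.Two Gold H23.L3 Matrix
open scoped commutatorElement MatrixGroups

variable {G : Type*} [Group G] [Finite G] {F : Type*} [Field F] [Finite F]
  {L A B J : Subgroup G} {ρ : G → SL(2, F)} {ψ : G → Fin 2 → F} {γ : G}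

theorem inv_of_sq_mem {X Y : Subgroup G} {n : G} (hX : n ∈ X) (h1 : n * n ∈ Y) (h2 : n ∉ Y) :
    ∃ u ∈ X, u * u = 1 ∧ u ≠ 1 := by
  have : Even (orderOf n) := Nat.not_odd_iff_even.1 fun ⟨m, e⟩ => h2 (by
    have := pow_mem h1 (m + 1)
    rwa [← pow_two, ← pow_mul, show 2 * (m + 1) = orderOf n + 1 by omega, pow_succ, pow_orderOf_eq_one,
      one_mul] at this)
  exact ⟨_, pow_mem hX _, H9.mul_self_of_orderOf_two (H9.orderOf_pow_half this),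
    H9.ne_one_of_orderOf_two (H9.orderOf_pow_half this)⟩

theorem NK.weyl (k : NK F L A J ρ ψ) {r : ℕ} [Fact r.Prime] (hr : r ≠ 2) {H : Subgroup G}
    (hL : H ≤ 𝐍(L)) (hJ : H ≤ 𝐍(J)) (hS : IsSylowIn r H (H ⊔ L ⊓ 𝐍(J)))
    (hd : r ∣ Nat.card (L ⊓ 𝐍(J) : Subgroup G)) :
    (∀ x ∈ J, x ∈ 𝐍(H) → x ∈ A ∧ x ∈ 𝐂(L)) ∧ ∃ n ∈ L ⊓ 𝐍(H), n * n = 1 ∧ n ≠ 1 := by
  have nB : H ≤ 𝐍((L ⊓ 𝐍(J) : Subgroup G)) :=
    H69.le_normalizer_inf hL (H69.le_normalizer_normalizer hJ)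
  have h1 := hS.inf_normal le_sup_right (sup_le nB le_normalizer)
  obtain ⟨⟨θ, ⟨θH, θL, θJ⟩, θC⟩, θ1⟩ := ne_bot_iff_exists_ne_one.1 (inf_centralizer_ne_bot h1.isP hS.isP
    (H69.le_normalizer_inf le_normalizer nB) (h1.dvd_card_iff.1 hd))
  have dj : ∀ x ∈ H, x ∈ J → x = 1 := fun x h1 h2 =>
    disjoint_def.1 (IsPGroup.disjoint_of_ne r 2 hr H J hS.isP k.pJ) h1 h2
  have θJ' : θ ∉ J := fun e => θ1 (Subtype.ext (dj θ θH e))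
  refine ⟨fun x hx hn => ?_, ?_⟩
  · have e := dj _ (cm_left θH hn) (cm_right θJ hx)
    have xA := k.fpA θL θJ θJ' hx (e ▸ one_mem _)
    exact ⟨xA, k.fpD θL θJ θJ' xA (by rw [conj_fix.2 (cm_eq_one.1 e), k.sq x xA]; exact one_mem _)⟩
  obtain ⟨l, hl, hn, h2, h3⟩ := k.two_fix θL θJ θJ'
  have HJ : H ≤ 𝐍(J ^ᶜ l) := fun h hh => by
    have e : (J ^ᶜ l) ^ᶜ h = J ^ᶜ (h * l * h⁻¹) := by
      rw [cj_cj, cj_eq_cj_iff]; simpa [mul_assoc] using hJ hh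
    rw [← cj_eq_self_iff, e]
    refine h3 _ (conj_mem_of_mem_normalizer (hL hh) hl) (fun c => hn ?_) ?_
    · simpa [mul_assoc] using mul_mem (mul_mem (inv_mem (hJ hh)) c) (hJ hh)
    · rw [← e, ← cj_normalizer, ← conj_fix.2 (θC h hh)]; exact cj_mem h h2
  obtain ⟨g, hg, e⟩ := hS.exists_le_cj (isPGroup_cj hS.isP l⁻¹) fun x hx => by
    obtain ⟨h, hh, rfl⟩ := mem_cj'.1 hx
    have m : l⁻¹ * h * l ∈ 𝐍(J) := by rw [← mem_cj, cj_normalizer]; exact HJ hh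
    rw [inv_inv, show l⁻¹ * h * l = h * (h⁻¹ * l⁻¹ * h * l) by group]
    refine mul_mem_sup hh ⟨mul_mem (conj_mem_of_mem_normalizer' (hL hh) (inv_mem hl)) hl, ?_⟩
    simpa [mul_assoc] using mul_mem (inv_mem (hJ hh)) m
  rw [sup_comm] at hg
  obtain ⟨b, hb, h, hh, rfl⟩ := (mem_sup_of_le_normalizer_left nB).1 hg
  rw [← cj_cj, cj_eq_of_mem hh, le_cj_iff, cj_cj, ← _root_.mul_inv_rev] at e
  have nH := inv_mem_iff.1 (mem_normalizer_of_cj_le e)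
  have e1 : J ^ᶜ (l * b) = J ^ᶜ l := by rw [← cj_cj, cj_eq_of_mem_normalizer hb.2]
  have n1 : l * b ∉ 𝐍(J) := fun c => hn (((𝐍(J)).mul_mem_cancel_right hb.2).1 c)
  have nL := mul_mem hl hb.1
  generalize l * b = n at *
  refine inv_of_sq_mem (Y := 𝐍(J)) ⟨nL, nH⟩ (by_contra fun c => n1 ?_) n1
  have := h3 _ (mul_mem nL nL) c (by
    rw [← cj_cj, e1, ← cj_normalizer]
    exact cj_mono n HJ ((cj_eq_of_mem_normalizer nH).ge θH))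
  rwa [← e1, cj_eq_cj_iff, inv_mul_cancel_left] at this

/-- Two blocks with a common Sylow subgroup, interchanged by `γ`. -/
structure Cg (F : Type*) [Field F] (L A B : Subgroup G) (γ : G) (ρ : G → SL(2, F))
    (ψ : G → Fin 2 → F) : Prop where
  k : NK F L A (A ⊔ B) ρ ψ
  te : TE A B
  m : 𝐍(A) ≤ 𝐍(L)
  γJ : γ ∈ 𝐍((A ⊔ B : Subgroup G))
  γA : γ ∉ 𝐍(A)
  D : ∀ x ∈ A, x ∈ 𝐂(L) → x ∈ 𝐂(L ^ᶜ γ) → x = 1
  cA : 𝐂(A) ≤ A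
  q : 2 < Nat.card F
  cd : (∃ d ∈ A, d ∈ 𝐂(L) ∧ d ≠ 1) → ∃ d ∈ A, d ∈ 𝐂(L) ∧ d ≠ 1 ∧ 𝐂[d] ≤ 𝐍(A)

namespace Cg

variable (h : Cg F L A B γ ρ ψ)
include h

theorem cAB : A ^ᶜ γ = B := (h.te.sw' h.γJ h.γA).1

theorem cBA : B ^ᶜ γ = A := (h.te.sw' h.γJ h.γA).2

theorem sw {g : G} (hg : g ∈ 𝐍((A ⊔ B : Subgroup G))) (hA : g ∉ 𝐍(A)) : L ^ᶜ g = L ^ᶜ γ :=
  cj_eq_cj_iff.2 (h.m (h.te.sw_mul (inv_mem h.γJ) hg (mt inv_mem_iff.1 h.γA) hA))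

theorem sw' {g : G} (hg : g ∈ 𝐍((A ⊔ B : Subgroup G))) (hA : g ∉ 𝐍(A)) : (L ^ᶜ γ) ^ᶜ g = L := by
  rw [cj_cj]; exact cj_eq_of_mem_normalizer (h.m (h.te.sw_mul hg h.γJ hA h.γA))

theorem DB {d : G} (hd : d ∈ A) (hc : d ∈ 𝐂(L)) : d ∈ B :=
  h.te.symm.mem_of_cent (mem_sup_right hd) (centralizer_anti (le_sup_right.trans h.k.JL) hc)

theorem symm : Cg F (L ^ᶜ γ) B A γ (fun x => ρ (γ⁻¹ * x * γ)) fun x => ψ (γ⁻¹ * x * γ) := by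
  have k := h.k.cj γ
  rw [h.cAB, cj_eq_of_mem_normalizer h.γJ, sup_comm] at k
  refine ⟨k, h.te.symm, ?_, sup_comm A B ▸ h.γJ,
    fun e => h.γA (h.te.symm.swB (sup_comm A B ▸ h.γJ) e), fun x hx h1 h2 => ?_, ?_, h.q, ?_⟩
  · rw [← h.cAB, ← cj_normalizer, ← cj_normalizer]; exact cj_mono γ h.m
  · rw [h.sw' h.γJ h.γA] at h2
    exact h.D x (h.te.mem_of_cent (mem_sup_right hx) (centralizer_anti h.k.AL h2)) h2 h1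
  · rw [← h.cAB, ← cj_centralizer]; exact cj_mono γ h.cA
  · rw [← h.cAB, ← cj_centralizer, ← cj_normalizer]
    rintro ⟨d, h1, h2, h3⟩
    obtain ⟨d, h1, h2, h3, h4⟩ := h.cd ⟨_, mem_cj.1 h1, mem_cj.1 h2, fun e => h3 (by
      simpa [mul_assoc, inv_mul_eq_one, eq_comm] using e)⟩
    exact ⟨_, cj_mem γ h1, cj_mem γ h2, mt conj_eq_one_iff.1 h3,
      cj_centralizer_singleton d γ ▸ cj_mono γ h4⟩

theorem yk {a : G} (ha : a ∈ A) : ψ a 1 = 0 ↔ a ∈ B := by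
  obtain ⟨b, hb, e⟩ := h.k.exJ 1
  refine ⟨fun e1 => ?_, fun e1 => ?_⟩
  · obtain ⟨a', ha', e2⟩ := h.k.exc' hb (fun c => by simpa [e] using (h.k.memA hb).2 c) e1
    have m := h.te.cm_memS hb ha'
    exact (B.mul_mem_cancel_left m.2).1 (h.DB (mul_mem m.1 ha) ((h.k.ψ_eq m.1 ha).1 e2))
  · have := (h.k.ψ_up hb ha).1
    rw [cm_eq_one.2 (h.te.cen ⟨ha, e1⟩ hb), h.k.ψ_one, e, one_mul] at this
    exact this.symm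

theorem Z_eq : h.k.Z = A ⊓ B := Subgroup.ext fun _ => and_congr_right h.yk

theorem card_A : Nat.card A = Nat.card F * Nat.card (A ⊓ B : Subgroup G) := h.Z_eq ▸ h.k.card_A

theorem stab {x z : G} (hx : x ∈ L) (hz : z ∈ A ⊓ B) (hC : z ∉ 𝐂(L)) (e : x * z * x⁻¹ ∈ B) :
    x ∈ 𝐍((A ⊔ B : Subgroup G)) :=
  h.k.stab hx hz.1 hC ((h.yk hz.1).2 hz.2) ((h.yk (h.k.cjA hx hz.1)).2 e)

theorem torus : (∃ t, t * t = 1 ∧ t ≠ 1 ∧ t ∈ 𝐍(A) ∧ t ∈ 𝐍(B) ∧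
      (∃ n ∈ L, n ∉ 𝐍((A ⊔ B : Subgroup G)) ∧ n * t = t * n) ∧
      ∃ n ∈ L ^ᶜ γ, n ∉ 𝐍((B ⊔ A : Subgroup G)) ∧ n * t = t * n) ∨
    ∃ (t n : G) (X : Subgroup G), Sw A B t ∧ n ∈ L ∧ n * n = 1 ∧ n ∉ 𝐍((A ⊔ B : Subgroup G)) ∧
      n ∈ X ∧ t ∈ X ∧ ∀ u ∈ X, u ∈ A ⊔ B → u = 1 := by
  have k := h.k
  have k' := h.symm.k
  have m' := h.symm.m
  rw [sup_comm B A] at k' ⊢
  have te := h.te
  set J := A ⊔ B with hJ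
  set L' := L ^ᶜ γ
  have c1 : ∀ g ∈ 𝐍(J), (L ⊓ 𝐍(J)) ^ᶜ g = L ^ᶜ g ⊓ 𝐍(J) := fun g hg => by
    rw [cj_inf, cj_eq_of_mem hg]
  have c2 : ∀ g ∈ 𝐍(J), (L' ⊓ 𝐍(J)) ^ᶜ g = L' ^ᶜ g ⊓ 𝐍(J) := fun g hg => by
    rw [cj_inf, cj_eq_of_mem hg]
  have n1 : 𝐍(J) ⊓ 𝐍(A) ≤ 𝐍((L ⊓ 𝐍(J) : Subgroup G)) := fun g hg => by
    rw [← cj_eq_self_iff, c1 g hg.1, cj_eq_of_mem_normalizer (h.m hg.2)]
  have n2 : 𝐍(J) ⊓ 𝐍(A) ≤ 𝐍((L' ⊓ 𝐍(J) : Subgroup G)) := fun g hg => by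
    rw [← cj_eq_self_iff, c2 g hg.1, cj_eq_of_mem_normalizer (m' (te.swB hg.1 hg.2))]
  have l1 : L ⊓ 𝐍(J) ≤ 𝐍(J) ⊓ 𝐍(A) := fun g hg => ⟨hg.2, k.nrm hg.1⟩
  have l2 : L' ⊓ 𝐍(J) ≤ 𝐍(J) ⊓ 𝐍(A) := fun g hg =>
    ⟨hg.2, te.symm.swB (sup_comm A B ▸ hg.2) (k'.nrm hg.1)⟩
  have l0 := sup_le l1 l2
  set B0 := L ⊓ 𝐍(J) ⊔ L' ⊓ 𝐍(J)
  have n0 : 𝐍(J) ≤ 𝐍(B0) := fun g hg => by
    by_cases hA : g ∈ 𝐍(A)
    · exact H69.le_normalizer_sup n1 n2 ⟨hg, hA⟩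
    · rw [← cj_eq_self_iff, cj_sup, c1 g hg, c2 g hg, h.sw hg hA, h.sw' hg hA, sup_comm]
  have two : ∀ x ∈ B0, El2 x → x ∈ J := fun x hx h2 => by
    obtain ⟨b1, hb1, b2, hb2, rfl⟩ := (mem_sup_of_le_normalizer_left (l2.trans n1)).1 hx
    obtain ⟨g1, m1, g2, m2, o1, o2, rfl⟩ := exists_parts b2
    replace m1 := zpowers_le.2 hb2 m1
    replace m2 := zpowers_le.2 hb2 m2
    have := mem_of_el2 (oddS_zpowers o1) (zpowers_le.2 (n1 (l2 m1))) (mul_mem (mem_sup_left hb1)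
      (mul_mem (mem_sup_right (mem_zpowers g1)) (mem_sup_left
        ⟨k.JL (k'.mem2 m2.1 m2.2 o2), m2.2⟩))) h2
    exact k.mem2 this.1 this.2 h2
  obtain ⟨x, hx, xo, x1⟩ : ∃ x ∈ L ⊓ 𝐍(J), (orderOf x).Coprime 2 ∧ x ≠ 1 := by
    by_contra! c
    obtain ⟨x, h1, h2, h3⟩ := k.exθ h.q
    exact h3 (k.mem2 h1 h2 (El2.of_mem (H70.isPGroup_of_forall_coprime c) ⟨h1, h2⟩))
  have pr := Nat.minFac_prime (mt orderOf_eq_one_iff.1 x1)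
  have hr : (orderOf x).minFac ≠ 2 := fun e => by
    have := Nat.minFac_dvd (orderOf x)
    rw [e] at this
    simpa using (Nat.Coprime.eq_one_of_dvd xo.symm this)
  have hd := (Nat.minFac_dvd _).trans (orderOf_dvd_natCard _ hx)
  generalize (orderOf x).minFac = r at pr hr hd
  haveI := Fact.mk pr
  obtain ⟨H, hH⟩ := exists_isSylowIn r B0
  have HN := hH.le.trans l0
  obtain ⟨w1, a1, ha1, w2⟩ := k.weyl hr (HN.trans (inf_le_right.trans h.m)) (HN.trans inf_le_left)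
    (hH.mono le_sup_left (sup_le hH.le le_sup_left)) hd
  obtain ⟨w3, a2, ha2, w4⟩ := k'.weyl hr (fun g hg => m' (te.swB (HN hg).1 (HN hg).2))
    (HN.trans inf_le_left) (hH.mono le_sup_left (sup_le hH.le le_sup_right))
    (by rwa [← c1 γ h.γJ, card_cj])
  have w0 : ∀ u ∈ 𝐍(H), u ∈ J → u = 1 := fun u h1 h2 =>
    h.D u (w1 u h2 h1).1 (w1 u h2 h1).2 (w3 u h2 h1).2
  by_cases hf : ∃ t ∈ 𝐍(H) ⊓ (𝐍(J) ⊓ 𝐍(A)), t * t = 1 ∧ t ≠ 1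
  · obtain ⟨t, ⟨tH, tJ, tA⟩, t2, t1⟩ := hf
    have tB := te.swB tJ tA
    have nH := normalizer_le_normalizer_normalizer H tH
    obtain ⟨u, hu, u2, u1, e⟩ := exists_cen_inv (El2.of_mul_self t2)
      (H69.le_normalizer_inf (zpowers_le.2 (h.m tA)) (zpowers_le.2 nH) (mem_zpowers t)) ha1 w2.1 w2.2
    obtain ⟨v, hv, v2, v1, e'⟩ := exists_cen_inv (El2.of_mul_self t2)
      (H69.le_normalizer_inf (zpowers_le.2 (m' tB)) (zpowers_le.2 nH) (mem_zpowers t)) ha2 w4.1 w4.2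
    exact Or.inl ⟨t, t2, t1, tA, tB,
      ⟨u, hu.1, fun c => u1 (w0 u hu.2 (k.mem2 hu.1 c (El2.of_mul_self u2))), e⟩,
      v, hv.1, fun c => v1 (w0 v hv.2 (k'.mem2 hv.1 c (El2.of_mul_self v2))), e'⟩
  obtain ⟨b, hb, g, hg, e⟩ := hH.frattini (n0 h.γJ)
  have gJ : g ∈ 𝐍(J) := ((𝐍(J)).mul_mem_cancel_left (l0 hb).1).1 (e ▸ h.γJ)
  have gA : g ∉ 𝐍(A) := fun c => h.γA (e ▸ mul_mem (l0 hb).2 c)
  obtain ⟨t, ht, t2, t1⟩ := inv_of_sq_mem (X := 𝐍(H) ⊓ 𝐍(J)) ⟨hg, gJ⟩ (te.sw_mul gJ gJ gA gA) gA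
  refine Or.inr ⟨t, a1, 𝐍(H), ⟨te, fun x xA xB x2 => ?_, ?_, ht.2,
    fun c => hf ⟨t, ⟨ht.1, ht.2, c⟩, t2, t1⟩, t2⟩, ha1.1, w2.1,
    fun c => w2.2 (w0 a1 ha1.2 (k.mem2 ha1.1 c (El2.of_mul_self w2.1))), ha1.2, ht.1, w0⟩
  · have xJ : x ∈ 𝐍(J) := H69.le_normalizer_sup (zpowers_le.2 xA) (zpowers_le.2 xB) (mem_zpowers x)
    obtain ⟨b, hb, g, hg, rfl⟩ := hH.frattini (n0 xJ)
    refine two _ (mem_of_el2 (X := 𝐍(H) ⊓ (𝐍(J) ⊓ 𝐍(A))) (oddS_iff.2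
      ((H9.odd_card_iff_forall_orderOf_ne_two _).2 fun t ht e => hf ⟨t, ht,
        H9.mul_self_of_orderOf_two e, H9.ne_one_of_orderOf_two e⟩))
      ((inf_le_right.trans inf_le_left).trans n0) (mul_mem_sup hb ⟨hg,
        (mul_mem_cancel_left (l0 hb)).1 ⟨xJ, xA⟩⟩) x2) x2
  · rw [h.card_A]
    exact Nat.mul_lt_mul_of_pos_right h.q Nat.card_pos

end Cg

end H23.PU
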