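import Mathlib
import Cfsg.Agent.Base
import Cfsg.Agent.Lib.TI2.PuC

/-!
# Pushing up in groups of characteristic 2 type, IV: two interchanged `SL₂(q)`-blocks
-/

set_option autoImplicit false
set_option linter.unusedSectionVars false

namespace H23.PU

open Subgroup Cfsg H69 H45 H55.Two Gold H23.L3 Matrix
open scoped commutatorElement MatrixGroups

variable {G : Type*} [Group G] [Finite G] {F : Type*} [Field F] [Finite F]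
  {L A B J P : Subgroup G} {ρ : G → SL(2, F)} {ψ : G → Fin 2 → F} {γ t n n' : G}

theorem exists_cen {X : Subgroup G} (hX : IsPGroup 2 X) (h : X ≠ ⊥) (hP : IsPGroup 2 P)
    (hn : P ≤ 𝐍(X)) : ∃ x ∈ X, x ≠ 1 ∧ x ∈ 𝐂(P) := by
  obtain ⟨⟨x, h1, h2⟩, h3⟩ := ne_bot_iff_exists_ne_one.1 (inf_centralizer_ne_bot hX hP hn h)
  exact ⟨x, h1, fun e => h3 (Subtype.ext e), h2⟩

theorem exists_cen1 {X : Subgroup G} (hX : IsPGroup 2 X) {x : G} (h : x ∈ X) (h1 : x ≠ 1)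
    (ht : El2 t) (hn : t ∈ 𝐍(X)) : ∃ x ∈ X, x ≠ 1 ∧ x ∈ 𝐂[t] := by
  obtain ⟨y, h1, h2, h3⟩ := exists_cen hX (fun e => h1 (mem_bot.1 (e ▸ h))) ht.isPGroup
    (zpowers_le.2 hn)
  exact ⟨y, h1, h2, H69.centralizer_zpowers t ▸ h3⟩

theorem Sw.le_norm (h : Sw A B t) (hP : IsPGroup 2 P) (hJ : A ⊔ B ≤ P) :
    P ≤ 𝐍((A ⊔ B : Subgroup G)) := by
  by_contra c
  obtain ⟨y, hy, hyN, n⟩ := H70.exists_mem_normalizer_of_lt hP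
    (lt_of_le_of_ne (inf_le_left : P ⊓ 𝐍((A ⊔ B : Subgroup G)) ≤ P) (mt inf_eq_left.1 c))
  exact hyN ⟨hy, h.normJ ((cj_le_of_mem_normalizer (le_inf hJ le_normalizer) n).trans inf_le_right)⟩

theorem NK.le_J (k : NK F L A J ρ ψ) (hP : IsPGroup 2 P) (hL : P ≤ L) {b : G} (hb : b ∈ P)
    (h1 : b ∈ J) (h2 : b ∉ A) : P ≤ J := by
  obtain ⟨l, hl, e⟩ := k.syl.exists_le_cj hP hL
  rwa [cj_eq_of_mem_normalizer (by_contra fun c => h2 (k.ti hl c h1 (le_normalizer (e hb))))] at e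

namespace Cg

variable (h : Cg F L A B γ ρ ψ)
include h

theorem swap_false (hG : IsCharacteristicTwoType G) (hZ : 4 < Nat.card (A ⊓ B : Subgroup G))
    (hc : ∀ t, Sw A B t → ∀ z ∈ A ⊓ B, z ≠ 1 → z * t = t * z → 𝐂[z] ≤ 𝐍((A ⊔ B : Subgroup G)))
    (hs : ∃ (t n : G) (X : Subgroup G), Sw A B t ∧ n ∈ L ∧ n * n = 1 ∧
      n ∉ 𝐍((A ⊔ B : Subgroup G)) ∧ n ∈ X ∧ t ∈ X ∧ ∀ u ∈ X, u ∈ A ⊔ B → u = 1) : False := by
  obtain ⟨t, n, X, s, h1, h2, h3, h4, h5, h6⟩ := hs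
  obtain ⟨g, -, e⟩ := h.k.syl.exists_cj_le (El2.of_mul_self h2).isPGroup (zpowers_le.2 h1)
  exact s.false (s.cenT hG hZ (hc t s)) h2 (e (cj_mem g (mem_zpowers n))) h3 h4 h5 h6

section L3

variable (hD : ∀ d ∈ A, d ∈ 𝐂(L) → d = 1)
include hD

theorem D_symm : ∀ d ∈ B, d ∈ 𝐂(L ^ᶜ γ) → d = 1 := fun d h1 h2 => by
  rw [← h.cAB] at h1
  rw [← cj_centralizer] at h2
  simpa [mul_assoc, inv_mul_eq_one, eq_comm] using hD _ (mem_cj.1 h1) (mem_cj.1 h2)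

theorem nb : NB L A B ∧ ∃ ψ y c, Co F A B ψ y c :=
  have k := h.k
  have := N2.nb0 ⟨k.AL, k.nrm, k.ρ_mul, k.ψ_mul, k.ρ_surj, k.ψ_surj,
    fun v hv e => hD v hv ((k.ψ_ker v hv).1 e), k.ρ_ker, k.equiv⟩ k.two h.te.sqB h.te.nB k.JL k.hJ
  ⟨this.1, _, _, _, this.2⟩

theorem cf : Cf F L (L ^ᶜ γ) A B :=
  ⟨(h.nb hD).1, (h.symm.nb (h.D_symm hD)).1, (h.nb hD).2, h.m, h.symm.m, h.cA, h.symm.cA⟩

theorem l3 (hG : IsCharacteristicTwoType G) : SectionalPRankLE 2 4 G := by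
  have c := h.cf hD
  have te := h.te
  obtain ⟨m, hm⟩ := (te.pA.to_le (inf_le_left : A ⊓ B ≤ A)).exists_card_eq
  rw [c.card_Z] at hm
  have q := h.q
  rcases m with _ | _ | _ | m
  · omega
  · omega
  · exact c.four hm
  have hq : 8 ≤ Nat.card F := by rw [hm, pow_succ, pow_succ, pow_succ]; omega
  refine (h.torus.elim ?_ (h.swap_false hG (by rw [c.card_Z]; omega)
    fun _ _ z hz z1 _ => c.cen (by omega) hG hz z1)).elim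
  rintro ⟨t, t2, t1, tA, tB, ⟨n, nL, nJ, nt⟩, n', nL', nJ', nt'⟩
  have hC := charC hG t2 t1
  have k1 : ∀ z ∈ A ⊓ B, z ≠ 1 → n * z * n⁻¹ ∈ A ∧ n * z * n⁻¹ ∉ B := fun z hz z1 =>
    ⟨h.k.cjA nL hz.1, fun e => nJ (h.stab nL hz (mt (hD z hz.1) z1) e)⟩
  have k2 : ∀ z ∈ A ⊓ B, z ≠ 1 → n' * z * n'⁻¹ ∈ B ∧ n' * z * n'⁻¹ ∉ A := fun z hz z1 =>
    ⟨h.symm.k.cjA nL' hz.2, fun e => nJ' (h.symm.stab nL' hz.symm (mt (h.D_symm hD z hz.2) z1) e)⟩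
  replace nt := mem_centralizer_singleton_iff.2 nt
  replace nt' := mem_centralizer_singleton_iff.2 nt'
  have pZ := te.pA.to_le (inf_le_left : A ⊓ B ≤ A)
  obtain ⟨z, hz, z1, zt⟩ := exists_cen pZ te.Z_ne (El2.of_mul_self t2).isPGroup
    (H69.le_normalizer_inf (zpowers_le.2 tA) (zpowers_le.2 tB))
  rw [H69.centralizer_zpowers] at zt
  obtain ⟨P, hP, hl⟩ := exists_isSylowIn_le (L := 𝐂[t]) (te.pS.to_le inf_le_left) inf_le_right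
  obtain ⟨S, hS⟩ := exists_isSylowIn 2 𝐍((A ⊔ B : Subgroup G))
  obtain ⟨g, -, e⟩ := (c.sylow (by omega) hS).exists_cj_le hP.isP le_top
  replace e := e.trans hS.le
  obtain ⟨a1, a2⟩ := k1 z hz z1
  obtain ⟨b1, b2⟩ := k2 z hz z1
  have gJ := c.ti hq hG (g := g) (te.cm_mem a1 b1)
    (fun c => (te.nc _ a1 _ b1 (cm_eq_one.1 c)).elim a2 b2) (by
      rw [conj_cm]
      exact te.cm_memSS (c.closed hq hG (mem_sup_left a1) (e (cj_mem g (hl ⟨mem_sup_left a1,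
        (𝐂[t]).mul_mem (mul_mem nt zt) (inv_mem nt)⟩)))) (c.closed hq hG (mem_sup_right b1)
          (e (cj_mem g (hl ⟨mem_sup_right b1,
            (𝐂[t]).mul_mem (mul_mem nt' zt) (inv_mem nt')⟩)))))
  rw [cj_le_iff, cj_eq_of_mem (inv_mem gJ)] at e
  replace e := hP.pCoreOf_le.trans e
  obtain ⟨w, hw, w1, wR⟩ := exists_cen pZ te.Z_ne (H70.isPGroup_pCoreOf 2 _) (e.trans te.normS_Z)
  have tR : t ∈ pCoreOf 2 𝐂[t] := hC ⟨mem_centralizer_singleton_iff.2 rfl, fun r hr =>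
    mem_centralizer_singleton_iff.1 (H70.pCoreOf_le 2 _ hr)⟩
  have nR := H70.le_normalizer_pCoreOf 2 𝐂[t]
  have m := conj_mem_of_mem_normalizer (nR nt')
    (hC ⟨mem_centralizer_singleton_iff.2 (wR t tR).symm, wR⟩)
  obtain ⟨b1, b2⟩ := k2 w hw w1
  refine b2 (h.k.ti nL nJ (mem_sup_right b1) ?_)
  rw [← cj_normalizer, mem_cj]
  exact e (conj_mem_of_mem_normalizer' (nR nt) m)

end L3

theorem normJ {g z : G} (hg : g ∈ 𝐍(A)) (hz : z ∈ A ⊓ B) (hC : z ∉ 𝐂(L)) (e : g * z * g⁻¹ ∈ B) :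
    g ∈ 𝐍((A ⊔ B : Subgroup G)) := by
  obtain ⟨l, hl, e1⟩ := h.k.syl.conj (h.k.syl.cj_of_mem_normalizer (h.m hg))
  rw [eq_comm, cj_eq_cj_iff] at e1
  have m := h.stab hl (conj_mem_of_mem_normalizer (h.te.normS_Z e1) hz) (fun c => hC
    ((mem_normalizer_iff.1 (normalizer_le_normalizer_centralizer L
      (mul_mem (le_normalizer (inv_mem hl)) (h.m hg))) z).2 c)) (by simpa [mul_assoc] using e)
  simpa using mul_mem m e1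

section Sp4

theorem trD {d z : G} (h1 : d ∈ B ⊓ 𝐂(L ^ᶜ γ)) (d1 : d ≠ 1) (hz : z ∈ A ⊓ B) (hC : z ∉ 𝐂(L)) :
    ∃ θ ∈ 𝐍(A) ⊓ 𝐍(B), θ * d * θ⁻¹ ∈ B ⊓ 𝐂(L ^ᶜ γ) ∧ ψ (θ * d * θ⁻¹) = ψ z := by
  have dA := h.symm.DB h1.1 h1.2
  have dC : d ∉ 𝐂(L) := fun c => d1 (h.D d dA c h1.2)
  obtain ⟨l, hl, e⟩ := h.k.tr dA hz.1 dC hC
  have lB := h.te.swB (h.k.stab hl dA dC ((h.yk dA).2 h1.1) (by rw [e, h.yk hz.1]; exact hz.2))
    (h.k.nrm hl)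
  exact ⟨l, ⟨h.k.nrm hl, lB⟩, conj_mem_of_mem_normalizer (H69.le_normalizer_inf le_rfl
    (h.symm.m.trans (normalizer_le_normalizer_centralizer _)) lB) h1, e⟩

theorem trD' {d d' : G} (h1 : d ∈ B ⊓ 𝐂(L ^ᶜ γ)) (d1 : d ≠ 1) (h2 : d' ∈ B ⊓ 𝐂(L ^ᶜ γ))
    (d2 : d' ≠ 1) : ∃ θ ∈ 𝐍(A) ⊓ 𝐍(B), θ * d * θ⁻¹ = d' := by
  have dA := h.symm.DB h2.1 h2.2
  obtain ⟨θ, a1, a2, a3⟩ := h.trD h1 d1 ⟨dA, h2.1⟩ fun c => d2 (h.D d' dA c h2.2)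
  have m := h.symm.DB a2.1 a2.2
  exact ⟨θ, a1, by
    rw [← h.te.inv dA]
    exact eq_inv_of_mul_eq_one_left (h.D _ (mul_mem m dA) ((h.k.ψ_eq m dA).1 a3) (mul_mem a2 h2).2)⟩

variable (hD : ∃ d ∈ A, d ∈ 𝐂(L) ∧ d ≠ 1)
include hD

theorem exD : ∃ d ∈ B, d ∈ 𝐂(L ^ᶜ γ) ∧ d ≠ 1 := by
  obtain ⟨d, h1, h2, h3⟩ := hD
  exact ⟨_, h.cAB ▸ cj_mem γ h1, cj_centralizer L γ ▸ cj_mem γ h2, mt conj_eq_one_iff.1 h3⟩

theorem cenD' {d : G} (h1 : d ∈ B ⊓ 𝐂(L ^ᶜ γ)) (d1 : d ≠ 1) : 𝐂[d] ≤ 𝐍(B) := by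
  obtain ⟨d0, a1, a2, a3, a4⟩ := h.symm.cd (h.exD hD)
  obtain ⟨θ, hθ, rfl⟩ := h.trD' ⟨a1, a2⟩ a3 h1 d1
  rw [← cj_centralizer_singleton]
  exact cj_le_of_mem_normalizer a4 (le_normalizer hθ.2)

theorem cenD {d : G} (h1 : d ∈ A ⊓ 𝐂(L)) (d1 : d ≠ 1) : 𝐂[d] ≤ 𝐍(A) :=
  h.symm.cenD' (h.exD hD) (by rwa [h.sw' h.γJ h.γA]) d1

theorem dec {z : G} (hz : z ∈ A ⊓ B) : ∃ d ∈ B ⊓ 𝐂(L ^ᶜ γ), d * z ∈ 𝐂(L) := by
  by_cases hC : z ∈ 𝐂(L)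
  · exact ⟨1, one_mem _, by rwa [one_mul]⟩
  obtain ⟨d, h1, h2, h3⟩ := h.exD hD
  obtain ⟨θ, -, a2, a3⟩ := h.trD ⟨h1, h2⟩ h3 hz hC
  exact ⟨_, a2, (h.k.ψ_eq (h.symm.DB a2.1 a2.2) hz.1).1 a3⟩

theorem D_le' : B ⊓ 𝐂(L ^ᶜ γ) ≤ ⁅A, B⁆ := by
  have k := h.k
  obtain ⟨a, ha, ea⟩ := k.exA 1
  obtain ⟨s, hs, es⟩ := k.exJ 1
  obtain ⟨a', ha', b, hb, rfl⟩ := h.te.dec hs
  rw [k.c_mul (k.AJ ha') (mem_sup_right hb), (k.memA (k.AJ ha')).2 ha', zero_add] at es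
  have w1 := (k.ψ_up (mem_sup_right hb) ha).1
  rw [h.te.cm_symm ha hb, es, ea, one_mul] at w1
  have w2 := h.te.cm_mem ha hb
  have w3 := commutator_mem_commutator ha hb
  generalize ⁅a, b⁆ = w at *
  obtain ⟨θ, θL, θJ, θ1⟩ := k.exθ h.q
  have θA := k.nrm θL
  have θB := h.te.swB θJ θA
  obtain ⟨d, hd, e⟩ := h.dec hD w2
  have dA := h.symm.DB hd.1 hd.2
  have n : 𝐍(A) ⊓ 𝐍(B) ≤ 𝐍(⁅A, B⁆) := H69.le_normalizer_commutator inf_le_left inf_le_right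
  have e1 : θ * w * θ⁻¹ * w = θ * d * θ⁻¹ * d := by
    have e2 : w = d * (d * w) := by rw [← mul_assoc, k.sq d dA, one_mul]
    have m := mul_mem dA w2.1
    generalize d * w = c at *
    rw [e2, ← conj_mul, conj_fix.2 (e θ θL), mul_assoc, ← mul_assoc c, k.comm m dA, mul_assoc d,
      k.sq c m, mul_one]
  intro x hx
  by_cases x1 : x = 1
  · exact x1 ▸ one_mem _
  obtain ⟨θ', h1, rfl⟩ := h.trD' (d := θ * w * θ⁻¹ * w) (e1 ▸ mul_mem (conj_mem_of_mem_normalizer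
    (H69.le_normalizer_inf le_rfl (h.symm.m.trans (normalizer_le_normalizer_centralizer _)) θB) hd) hd)
    (fun c => k.nC w2.1 (w1 ▸ one_ne_zero) (k.fpD θL θJ θ1 w2.1 (c ▸ one_mem _))) hx x1
  exact conj_mem_of_mem_normalizer (n h1) (mul_mem (conj_mem_of_mem_normalizer (n ⟨θA, θB⟩) w3) w3)

theorem Z_le : A ⊓ B ≤ ⁅A, B⁆ := fun z hz => by
  obtain ⟨d, hd, e⟩ := h.dec hD hz
  have := h.symm.D_le' (h.exD hD)
  rw [h.sw' h.γJ h.γA, commutator_comm] at this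
  exact (mul_mem_cancel_left (h.D_le' hD hd)).1 (this ⟨mul_mem (h.symm.DB hd.1 hd.2) hz.1, e⟩)

omit hD in
theorem card_eq {X : Subgroup G} (hX : X ≤ A ⊓ B) :
    Nat.card X = ((fun x => ψ x 0) '' X).ncard * Nat.card (X ⊓ 𝐂(L) : Subgroup G) :=
  card_coord (fun _ hu _ hv => h.k.ψ_mul' (hX hu).1 (hX hv).1 0) fun u hu =>
    ⟨fun e => (h.k.ψ_ker u (hX hu).1).1 (vec_ext e ((h.yk (hX hu).1).2 (hX hu).2)),
      fun e => by rw [(h.k.ψ_ker u (hX hu).1).2 e]; rfl⟩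

theorem card_D : Nat.card F ≤ Nat.card (A ⊓ B ⊓ 𝐂(L) : Subgroup G) := by
  have e : (A ⊓ B ⊓ 𝐂(L)) ^ᶜ γ = B ⊓ A ⊓ 𝐂(L ^ᶜ γ) := by
    rw [cj_inf, cj_inf, h.cAB, h.cBA, cj_centralizer]
  rw [← card_cj _ γ, e, h.card_eq (inf_le_left.trans (inf_comm B A).le),
    Set.eq_univ_of_forall (s := _ '' _) fun t => ?_, Set.ncard_univ]
  · exact Nat.le_mul_of_pos_right _ Nat.card_pos
  obtain ⟨z, hz, e0, e1⟩ := h.k.exZ t
  obtain ⟨d, hd, e⟩ := h.dec hD ⟨hz, (h.yk hz).1 e1⟩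
  have dA := h.symm.DB hd.1 hd.2
  exact ⟨d, ⟨⟨hd.1, dA⟩, hd.2⟩, by rw [← e0, ← (h.k.ψ_eq dA hz).2 e]⟩

theorem card_Z : Nat.card F ^ 2 ≤ Nat.card (A ⊓ B : Subgroup G) := by
  rw [h.card_eq le_rfl, Set.eq_univ_of_forall (s := _ '' _) fun t => ?_, Set.ncard_univ, sq]
  · exact Nat.mul_le_mul_left _ (h.card_D hD)
  obtain ⟨z, hz, e0, e1⟩ := h.k.exZ t
  exact ⟨z, ⟨hz, (h.yk hz).1 e1⟩, e0⟩

omit hD in
theorem not_cen {s z : G} (hs : s ∈ 𝐍((A ⊔ B : Subgroup G))) (hA : s ∉ 𝐍(A)) (hz : z ∈ A)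
    (e : z * s = s * z) (hC : z ∈ 𝐂(L)) : z = 1 :=
  h.D z hz hC (by rw [← h.sw hs hA, ← cj_centralizer, ← conj_fix.2 e.symm]; exact cj_mem s hC)

theorem cenZ (hG : IsCharacteristicTwoType G) (s : Sw A B t) {z : G} (hz : z ∈ A ⊓ B) (z1 : z ≠ 1)
    (zt : z * t = t * z) : 𝐂[z] ≤ 𝐍((A ⊔ B : Subgroup G)) := by
  have te := h.te
  have hC := charC hG (te.sqA z hz.1) z1
  have JC : A ⊔ B ≤ 𝐂[z] := fun x hx => mem_centralizer_singleton_iff.2 (te.cen hz hx)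
  obtain ⟨P, hP, hl⟩ := exists_isSylowIn_le te.pS JC
  have RN := hP.pCoreOf_le.trans (s.le_norm hP.isP hl)
  have nR := H70.le_normalizer_pCoreOf 2 𝐂[z]
  have ZR : A ⊓ B ≤ pCoreOf 2 𝐂[z] := by
    by_cases c : pCoreOf 2 𝐂[z] ≤ 𝐍(A)
    · exact fun x hx => hC ⟨JC (mem_sup_left hx.1), fun r hr => te.cen hx (s.mem (RN hr) (c hr)
        (El2.of_mem (H70.isPGroup_pCoreOf 2 _) hr))⟩
    obtain ⟨r, hr, rA⟩ := SetLike.not_le_iff_exists.1 c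
    refine (h.Z_le hD).trans (commutator_le.2 fun a ha b hb => ?_)
    rw [← (te.sw' (RN hr) rA).1] at hb
    obtain ⟨a', ha', rfl⟩ := mem_cj'.1 hb
    have := cm_right (nR (JC (mem_sup_left ha))) (cm_right (nR (JC (mem_sup_left ha'))) hr)
    rwa [commutatorElement_def a', te.inv ha', mul_assoc, mul_assoc, ← mul_assoc r,
      cm_mul_right (te.cen (te.cm_mem ha ((te.sw' (RN hr) rA).1 ▸ hb)) (mem_sup_left ha')),
      cm_eq_one.2 (te.comm ha ha'), one_mul] at this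
  have zC : z ∉ 𝐂(L) := fun c => z1 (h.not_cen s.tJ s.tA hz.1 zt c)
  have tC : t ∈ 𝐂[z] := mem_centralizer_singleton_iff.2 zt.symm
  have fix : ∀ g ∈ 𝐂[z], g ∈ 𝐍(A) → g ∈ 𝐍((A ⊔ B : Subgroup G)) := fun g hg hA =>
    h.normJ hA hz zC (by rw [conj_fix.2 (mem_centralizer_singleton_iff.1 hg)]; exact hz.2)
  have back : ∀ g ∈ 𝐂[z], (A ⊓ B) ^ᶜ g ≤ A → g ∈ 𝐍((A ⊔ B : Subgroup G)) := fun g hg e => by
    obtain ⟨d, d1, d2, d3⟩ := id hD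
    obtain ⟨d', e1, e2, e3⟩ := h.exD hD
    have k : ∀ d ∈ A ⊓ B, A ^ᶜ g⁻¹ ≤ 𝐂[d] := fun d hd => by
      rw [← le_cj_iff, cj_centralizer_singleton]
      exact fun a ha => mem_centralizer_singleton_iff.2 (te.comm ha (e (cj_mem g hd)))
    rcases s.wc (H69.le_normalizer_sup ((k d ⟨d1, h.DB d1 d2⟩).trans (h.cenD hD ⟨d1, d2⟩ d3))
      ((k d' ⟨h.symm.DB e1 e2, e1⟩).trans (h.cenD' hD ⟨e1, e2⟩ e3))) (te.cj g⁻¹).sqA
      (card_cj A _).ge with c | c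
    · exact fix g hg (inv_mem_iff.1 (cj_eq_self_iff.1 c))
    · refine (mul_mem_cancel_right s.tJ).1 (fix _ (mul_mem hg tC) ?_)
      rw [← cj_eq_self_iff, ← cj_cj, s.cA, ← c, cj_inv_cj]
  intro g hg
  have E1 := (cj_le_of_mem_normalizer ZR (nR hg)).trans RN
  have E2 : ∀ e ∈ (A ⊓ B) ^ᶜ g, e * e = 1 := fun e he => (te.cj g).sqA e (cj_mono g inf_le_left he)
  have E3 : (A ⊓ B) ^ᶜ g ≤ A ⊔ B := by
    by_contra c
    obtain ⟨r, hr, rA, e⟩ := s.small E1 E2 c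
    rw [card_cj, h.card_eq inf_le_right, (eq_bot_iff (a := (A ⊓ B) ^ᶜ g ⊓ (A ⊓ B) ⊓ 𝐂(L))).2 fun x hx =>
      h.not_cen (E1 hr) rA hx.1.2.1 (comm2 E2 hx.1.1 hr) hx.2, card_bot, mul_one] at e
    have h1 := h.card_Z hD
    have h2 := Set.ncard_le_ncard (Set.subset_univ
      ((fun x => ψ x 0) '' ((A ⊓ B) ^ᶜ g ⊓ (A ⊓ B) : Subgroup G)))
    rw [Set.ncard_univ] at h2
    nlinarith [h.q]
  rcases te.le_or E3 E2 with c | c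
  · exact back g hg c
  · exact (mul_mem_cancel_left s.tJ).1 (back _ (mul_mem tC hg) (by
      rw [← cj_cj, ← s.cB]; exact cj_mono t (s.cB.symm ▸ c)))

theorem field (hG : IsCharacteristicTwoType G) (t2 : t * t = 1) (t1 : t ≠ 1) (tA : t ∈ 𝐍(A))
    (nL : n ∈ L) (nJ : n ∉ 𝐍((A ⊔ B : Subgroup G))) (nt : n * t = t * n) (nL' : n' ∈ L ^ᶜ γ)
    (nJ' : n' ∉ 𝐍((B ⊔ A : Subgroup G))) (nt' : n' * t = t * n') :
    pCoreOf 2 𝐂[t] ⊓ L ≤ A ∧ ¬ pCoreOf 2 𝐂[t] ⊓ L ≤ B := by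
  have k := h.k
  have hC := charC hG t2 t1
  obtain ⟨d, d1, d2, d3⟩ := id hD
  obtain ⟨d, hd, d1, dt⟩ := exists_cen1 (X := A ⊓ 𝐂(L)) (k.pA.to_le inf_le_left) ⟨d1, d2⟩ d3
    (El2.of_mul_self t2) (H69.le_normalizer_inf le_rfl
      (h.m.trans (normalizer_le_normalizer_centralizer _)) tA)
  replace nt := mem_centralizer_singleton_iff.2 nt
  replace nt' := mem_centralizer_singleton_iff.2 nt'
  have dB := h.DB hd.1 hd.2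
  have b1 := h.symm.k.cjA nL' dB
  have b2 : n' * d * n'⁻¹ ∉ A := fun e => nJ' (h.symm.stab nL' ⟨dB, hd.1⟩
    (fun c => d1 (h.D d hd.1 hd.2 c)) e)
  have b3 := mul_mem (mul_mem nt' dt) (inv_mem nt')
  generalize n' * d * n'⁻¹ = b at b1 b2 b3
  have bJ : b ∈ A ⊔ B := mem_sup_right b1
  have nR : 𝐂[t] ⊓ L ≤ 𝐍((pCoreOf 2 𝐂[t] ⊓ L : Subgroup G)) := H69.le_normalizer_inf
    (inf_le_left.trans (H70.le_normalizer_pCoreOf 2 _)) (le_normalizer_of_le inf_le_right)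
  have pR := (H70.isPGroup_pCoreOf 2 𝐂[t]).to_le (inf_le_left : _ ⊓ L ≤ _)
  have RJ := le_sup_left.trans (k.le_J (isPGroup_sup_of_le_normalizer_left pR
    (El2.of_mul_self (h.te.sqB b b1)).isPGroup (zpowers_le.2 (nR ⟨b3, k.JL bJ⟩)))
    (sup_le inf_le_right (zpowers_le.2 (k.JL bJ))) (mem_sup_right (mem_zpowers b)) bJ b2)
  have RA : pCoreOf 2 𝐂[t] ⊓ L ≤ A := fun x hx => k.ti nL nJ (RJ hx)
    (le_normalizer (mem_cj.2 (RJ (conj_mem_of_mem_normalizer' (nR ⟨nt, nL⟩) hx))))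
  refine ⟨RA, fun RB => nJ (le_normalizer (k.le_J (P := 𝐂[t] ⊓ L)
    (H70.isPGroup_of_forall_coprime fun x hx xo => ?_) inf_le_right ⟨b3, k.JL bJ⟩ bJ b2 ⟨nt, nL⟩))⟩
  have d2 := k.sq d hd.1
  refine hC.eq_one_of_centralizes (El2.of_mul_self d2).isPGroup (zpowers_le.2 dt) hx.1 xo
    (zpowers_le.2 (mem_centralizer_singleton_iff.2 (hd.2 x hx.2).symm))
    (H70.le_centralizer_of_commutator_mem pR xo (fun y hy => mem_centralizer_singleton_iff.2 ?_)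
      fun u hu => ⟨cm_left hu.1 (H70.le_normalizer_pCoreOf 2 _ hx.1), cm_right (h.m ?_) hx.2⟩)
  · refine Eq.symm ((by_contra fun c => nJ (h.stab nL ⟨RA hy, RB hy⟩ c
      (RB (conj_mem_of_mem_normalizer (nR ⟨nt, nL⟩) hy))) : y ∈ 𝐂(L)) x hx.2)
  · refine h.cenD hD hd d1 (mem_centralizer_singleton_iff.2 (conj_fix.1 ?_))
    exact ((mem_zpowers_of_mul_self d2).1 (conj_mem_of_mem_normalizer hu.2
      (mem_zpowers d))).resolve_left (mt conj_eq_one_iff.1 d1)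

theorem sp4 (hG : IsCharacteristicTwoType G) : False := by
  refine h.torus.elim ?_ (h.swap_false hG (by nlinarith [h.card_Z hD, h.q])
    fun _ s z hz z1 zt => h.cenZ hD hG s hz z1 zt)
  rintro ⟨t, t2, t1, tA, tB, ⟨n, nL, nJ, nt⟩, n', nL', nJ', nt'⟩
  obtain ⟨h1, h2⟩ := h.field hD hG t2 t1 tA nL nJ nt nL' nJ' nt'
  refine h2 fun x hx => (h.symm.field (h.exD hD) hG t2 t1 tB nL' nJ' nt'
    (by rwa [h.sw' h.γJ h.γA]) nJ nt).1 ⟨hx.1, h.symm.k.JL (mem_sup_right (h1 hx))⟩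

end Sp4

theorem main (hG : IsCharacteristicTwoType G) : SectionalPRankLE 2 4 G := by
  by_cases hD : ∃ d ∈ A, d ∈ 𝐂(L) ∧ d ≠ 1
  · exact (h.sp4 hD hG).elim
  · exact h.l3 (fun d h1 h2 => by_contra fun c => hD ⟨d, h1, h2, c⟩) hG

end Cg

end H23.PU
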