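import Mathlib
import Cfsg.Agent.Base
import Cfsg.Agent.Lib.TI2.PuD
import Cfsg.Agent.Lib.FGS83.MacG

/-!
# Pushing up in groups of characteristic 2 type, V: blocks of type `A₃` and `SL₂(q)`
-/

set_option autoImplicit false
set_option linter.unusedSectionVars false

namespace H23.PU

open Subgroup Cfsg H69 H45 H55.Two Gold H23.L3 Matrix
open scoped commutatorElement MatrixGroups

variable {G : Type*} [Group G] [Finite G] {K T W Q K' W' Q' X S : Subgroup G} {γ : G}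

theorem four_eq (h : Nat.card Q ≤ 4) (hX : X ≤ Q) {a b : G} (ha : a ∈ X) (hb : b ∈ X) (a1 : a ≠ 1)
    (b1 : b ≠ 1) (ab : a ≠ b) : Q ≤ X := by
  have h1 : 2 < Nat.card X := (Set.two_lt_ncard_iff (s := (X : Set G))).2
    ⟨1, a, b, one_mem X, ha, hb, a1.symm, b1.symm, ab⟩
  obtain ⟨c, e⟩ := card_dvd_of_le hX
  have : 0 < Nat.card Q := Nat.card_pos
  refine (eq_of_le_of_card_ge hX ?_).ge
  rcases c with _ | _ | c <;> nlinarith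

theorem sr_of_sr (hS : IsSylowIn 2 S ⊤) (h : H83.SR 4 S) : SectionalPRankLE 2 4 G :=
  H58.Har.sr_of_sylow hS fun H K hH hK hsq => by
    rw [← H4.card_mul_relIndex_of_le hK, mul_comm]
    exact Nat.mul_le_mul_right _ (H83.sr_subgroup_iff.1 h H K hH hK hsq)

theorem sr_self (h2 : ∀ a ∈ Q, a * a = 1) (hC : 𝐂(Q) ≤ Q) (h : Nat.card Q = 4 ∨ Nat.card Q = 8) :
    SectionalPRankLE 2 4 G := by
  obtain ⟨S, hS, hl⟩ := exists_isSylowIn_le (ea2 (ea_of_sq h2)) le_top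
  refine sr_of_sr hS ?_
  rcases h with h | h
  · obtain ⟨z, hz, z1, zC⟩ := exists_cen hS.isP (fun e => by simp [le_bot_iff.1 (e ▸ hl)] at h)
      hS.isP le_normalizer
    have zQ := hC (centralizer_anti hl zC)
    obtain ⟨y, hy, y1, yz⟩ : ∃ y ∈ Q, y ≠ 1 ∧ y ≠ z := by
      obtain ⟨a, ha, b, hb, a1, b1, ab⟩ := exists_two (X := Q) (by omega)
      by_cases e : a = z
      exacts [⟨b, hb, b1, e ▸ ab.symm⟩, ⟨a, ha, a1, e⟩]
    intro H K _ hsq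
    refine (H83.Mac.small_cent_rel hS.isP (t := ⟨y, hl hy⟩) (le_trans (Set.ncard_le_ncard_of_injOn
      Subtype.val (t := Q) (fun c hc => hC fun q hq => ?_) Subtype.val_injective.injOn)
        (show (Q : Set G).ncard ≤ 4 from h.le))
        hsq).1.trans (by norm_num)
    exact mem_centralizer_singleton_iff.1 (four_eq (X := Q ⊓ 𝐂[(c : G)]) h.le inf_le_left
      ⟨hy, mem_centralizer_singleton_iff.2 (conj_fix.1 (congrArg Subtype.val hc))⟩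
      ⟨zQ, mem_centralizer_singleton_iff.2 (zC c c.2).symm⟩ y1 z1 yz hq).2
  · exact H83.Mac.harada hS.isP (A := Q.subgroupOf S) ⟨fun a ha => Subtype.ext (h2 a ha),
      fun a ha b hb => Subtype.ext (conj_fix.2 (comm2 h2 ha hb)),
      fun s hs => hC fun a ha => conj_fix.1 (congrArg Subtype.val (hs ⟨a, hl ha⟩ ha)),
      by rw [card_subgroupOf hl, h]⟩

/-- the hypotheses on a block `K` normalized by the 2-group `T` -/
structure St (K T W Q : Subgroup G) : Prop where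
  pT : IsPGroup 2 T
  nK : T ≤ 𝐍(K)
  hW : W = pCoreOf 2 K
  sq : ∀ w ∈ W, w * w = 1
  W1 : W ≠ ⊥
  WQ : W ≤ Q
  QT : Q ≤ T
  KQ : K ≤ 𝐍(Q)
  TQ : T ≤ 𝐍(Q)
  QW : Q ≤ 𝐂(W)
  cW : K ⊓ 𝐂(W) ≤ W
  cO : ∃ O ≤ Q, 𝐍(K) ≤ 𝐍(O) ∧ 𝐂(O) ≤ O
  syl : ∀ x ∈ T, (∀ k ∈ K, x * k * x⁻¹ * k⁻¹ ∈ W) → x ∈ Q
  uniq : ∀ X : Subgroup G, IsPGroup 2 X → X ≠ ⊥ → K ≤ 𝐍(X) → T ≤ 𝐍(X) → 𝐍(X) ≤ 𝐍(K)
  sylP : IsSylowIn 2 (T ⊓ K) K

namespace St

variable (s : St K T W Q)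
include s

theorem cj (hγ : γ ∈ 𝐍(T)) : St (K ^ᶜ γ) T (W ^ᶜ γ) (Q ^ᶜ γ) := by
  have e := cj_eq_of_mem_normalizer hγ
  have e' := cj_eq_of_mem_normalizer (inv_mem hγ)
  refine ⟨s.pT, ?_, by rw [s.hW, cj_pCoreOf], fun w hw => ?_, mt cj_eq_bot_iff.1 s.W1,
    cj_mono γ s.WQ, e ▸ cj_mono γ s.QT, cj_normalizer Q γ ▸ cj_mono γ s.KQ, ?_,
    cj_centralizer W γ ▸ cj_mono γ s.QW, ?_, ?_,
    fun x hx h => ?_, fun X h1 h2 h3 h4 => ?_, ?_⟩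
  · rw [← cj_normalizer, le_cj_iff, e']; exact s.nK
  · obtain ⟨w, h, rfl⟩ := mem_cj'.1 hw
    rw [conj_mul, s.sq w h]; simp
  · rw [← cj_normalizer, le_cj_iff, e']; exact s.TQ
  · rw [← cj_centralizer, ← cj_inf]; exact cj_mono γ s.cW
  · obtain ⟨O, h1, h2, h3⟩ := s.cO
    exact ⟨_, cj_mono γ h1, by rw [← cj_normalizer, ← cj_normalizer]; exact cj_mono γ h2,
      cj_centralizer O γ ▸ cj_mono γ h3⟩
  · refine mem_cj.2 (s.syl _ (conj_mem_of_mem_normalizer' hγ hx) fun k hk => ?_)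
    simpa [mul_assoc] using mem_cj.1 (h _ (cj_mem γ hk))
  · rw [← cj_normalizer, le_cj_iff, cj_normalizer]
    refine s.uniq _ (isPGroup_cj h1 _) (mt cj_eq_bot_iff.1 h2) ?_ ?_
    · rwa [← cj_normalizer, ← cj_le_iff]
    · rwa [← cj_normalizer, ← cj_le_iff, e]
  · have := s.sylP.cj γ
    rwa [cj_inf, e] at this

theorem cQ : 𝐂(Q) ≤ Q := by
  obtain ⟨O, h1, -, h3⟩ := s.cO
  exact (centralizer_anti h1).trans (h3.trans h1)

theorem nQ (h : Q ≤ 𝐂(Q)) : 𝐍(K) ≤ 𝐍(Q) := by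
  obtain ⟨O, h1, h2, h3⟩ := s.cO
  rwa [← le_antisymm h1 (h.trans ((centralizer_anti h1).trans h3))]

theorem WK : W ≤ K := s.hW ▸ H70.pCoreOf_le 2 K

theorem nW : 𝐍(K) ≤ 𝐍(W) := s.hW ▸ H70.normalizer_le_normalizer_pCoreOf 2 K

theorem TW : T ≤ 𝐍(W) := s.nK.trans s.nW

theorem KW : K ≤ 𝐍(W) := le_normalizer.trans s.nW

theorem WT : W ≤ T := s.WQ.trans s.QT

theorem pQ : IsPGroup 2 Q := s.pT.to_le s.QT

theorem le_W (hX : X ≤ T) (hn : K ≤ 𝐍(X)) : X ⊓ K ≤ W :=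
  s.hW ▸ inf_le_pCoreOf (s.pT.to_le hX) hn

theorem cmQ {x k : G} (hx : x ∈ Q) (hk : k ∈ K) : ⁅x, k⁆ ∈ W :=
  s.le_W s.QT s.KQ ⟨cm_left hx (s.KQ hk), cm_right (s.nK (s.QT hx)) hk⟩

theorem le_Q (hX : X ≤ T) (hn : K ≤ 𝐍(X)) : X ≤ Q := fun x hx => s.syl x (hX hx) fun _ hk =>
  s.le_W hX hn ⟨cm_left hx (hn hk), cm_right (s.nK (hX hx)) hk⟩

theorem cT {x : G} (hx : x ∈ T) (h : x ∈ 𝐂(W)) : x ∈ Q := s.syl x hx fun _ hk =>
  s.cW ⟨cm_right (s.nK hx) hk, cm_left h (normalizer_le_normalizer_centralizer W (s.KW hk))⟩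

theorem cK {x : G} (hx : x ∈ T) (h : x ∈ 𝐂(K)) : x ∈ Q := s.cT hx (centralizer_anti s.WK h)

theorem exists_γ (h : ¬ 𝐍(T) ≤ 𝐍(K)) : ∃ γ ∈ 𝐍(T), ¬ W ^ᶜ γ ≤ Q := by
  by_contra! c
  have l := ncl_le_iff.2 c
  have n := le_normalizer_ncl W 𝐍(T)
  exact h (n.trans (s.uniq _ (s.pQ.to_le l) (fun e => s.W1 (le_bot_iff.1 (e ▸ le_ncl W _)))
    (le_normalizer_of_commutator_le_left (commutator_le.2 fun _ hx _ hk =>
      le_ncl W _ (s.cmQ (l hx) hk))) (le_normalizer.trans n)))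

variable (s' : St K' T W' Q') (n : ¬ W' ≤ Q)
include s' n

theorem n_symm : ¬ W ≤ Q' := fun e =>
  n fun _ hx => s.cT (s'.WT hx) (le_centralizer_iff.1 (e.trans s'.QW) hx)

theorem not_le : ¬ K' ≤ 𝐍(K) := fun e => s.n_symm s' n (s'.le_Q s.WT (e.trans s.nW))

theorem triv (hX : X ≤ T) (h1 : K ≤ 𝐍(X)) (h2 : K' ≤ 𝐍(X)) (h3 : T ≤ 𝐍(X)) : X = ⊥ :=
  by_contra fun e => s.not_le s' n (h2.trans (s.uniq X (s.pT.to_le hX) e h1 h3))

theorem DD {x : G} (hx : x ∈ T) (h1 : x ∈ 𝐂(K)) (h2 : x ∈ 𝐂(K')) : x = 1 :=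
  have nT : K ⊔ K' ≤ 𝐍((T ⊓ 𝐂((K ⊔ K' : Subgroup G)) : Subgroup G)) :=
    le_normalizer_of_le_centralizer (le_centralizer_iff.1 inf_le_right)
  mem_bot.1 ((s.triv s' n inf_le_left (le_sup_left.trans nT) (le_sup_right.trans nT)
    (H69.le_normalizer_inf le_normalizer (H69.le_normalizer_centralizer
      (H69.le_normalizer_sup s.nK s'.nK)))).le ⟨hx, H69.centralizer_sup K K' ▸ ⟨h1, h2⟩⟩)

theorem cmW {w w' : G} (hw : w ∈ W) (hw' : w' ∈ W') : ⁅w, w'⁆ ∈ W ⊓ W' :=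
  ⟨cm_left hw (s.TW (s'.WT hw')), cm_right (s'.TW (s.WT hw)) hw'⟩

end St

/-! ### Blocks of type `A₃` -/

/-- `K ≅ A₄` -/
structure A3 (K W : Subgroup G) : Prop where
  c4 : Nat.card W ≤ 4
  ex : ∃ x ∈ K, K ≤ W ⊔ zpowers x ∧ ∀ w ∈ W, w * x = x * w → w = 1

theorem A3.cj (a : A3 K W) (g : G) : A3 (K ^ᶜ g) (W ^ᶜ g) := by
  obtain ⟨x, h1, h2, h3⟩ := a.ex
  refine ⟨(card_cj W g).trans_le a.c4, _, cj_mem g h1, ?_, fun w hw e => ?_⟩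
  · rw [← cj_zpowers, ← cj_sup]; exact cj_mono g h2
  · obtain ⟨w, h, rfl⟩ := mem_cj'.1 hw
    rw [conj_mul, conj_mul, mul_left_inj, mul_right_inj] at e
    simp [h3 w h e]

namespace St

variable (s : St K T W Q) (a : A3 K W)
include s a

theorem a3_dec {y : G} (hy : y ∈ Q) : ∃ w ∈ W, w * y ∈ 𝐂(K) := by
  obtain ⟨x, h1, h2, h3⟩ := a.ex
  let f : W → W := fun w => ⟨⁅(w : G), x⁆, s.cmQ (s.WQ w.2) h1⟩
  have key : ∀ u v : G, ⁅u, x⁆ = ⁅v, x⁆ → u⁻¹ * v * x = x * (u⁻¹ * v) := fun u v e => by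
    simp only [commutatorElement_def, mul_left_inj] at e
    rw [mul_assoc, ← mul_left_inj v⁻¹, mul_assoc, ← e]; group
  obtain ⟨w, e⟩ := Finite.surjective_of_injective (f := f) (fun u v e => Subtype.ext
    (inv_mul_eq_one.1 (h3 _ (mul_mem (inv_mem u.2) v.2) (key _ _ (congrArg Subtype.val e)))))
    ⟨_, s.cmQ hy h1⟩
  refine ⟨w⁻¹, inv_mem w.2, centralizer_anti h2 ?_⟩
  rw [H69.centralizer_sup, H69.centralizer_zpowers]
  exact ⟨s.QW (mul_mem (s.WQ (inv_mem w.2)) hy),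
    mem_centralizer_singleton_iff.2 (key _ _ (congrArg Subtype.val e))⟩

theorem a3_W {w : G} (hw : w ∈ W) (h : w ∈ 𝐂(K)) : w = 1 := by
  obtain ⟨x, h1, -, h3⟩ := a.ex
  exact h3 w hw (h x h1).symm

variable (s' : St K' T W' Q') (a' : A3 K' W') (n : ¬ W' ≤ Q)
include s' a' n

theorem a3_z : ∃ z ∈ W ⊓ W', z ≠ 1 ∧ ∀ u ∈ W', u ∈ Q → u = 1 ∨ u = z := by
  obtain ⟨v, hv, h⟩ := SetLike.not_le_iff_exists.1 n
  obtain ⟨w, hw, e⟩ : ∃ w ∈ W, w * v ≠ v * w := by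
    by_contra! c
    exact h (s.cT (s'.WT hv) c)
  have m := s.cmW s' n hw hv
  refine ⟨_, m, mt cm_eq_one.1 e, fun u h1 h2 => by_contra fun c => n ?_⟩
  rw [not_or] at c
  exact (four_eq (X := W' ⊓ Q) a'.c4 inf_le_left ⟨h1, h2⟩ ⟨m.2, s.WQ m.1⟩ c.1
    (mt cm_eq_one.1 e) c.2).trans inf_le_right

theorem a3_D {d : G} (hd : d ∈ T) (h : d ∈ 𝐂(K)) : d ∈ Q' := by
  obtain ⟨z, hz, z1, e⟩ := s.a3_z a s' a' n
  refine s'.cT hd fun v hv => cm_eq_one.1 ?_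
  have m : ⁅v, d⁆ ∈ 𝐂(K) := cm_right (normalizer_le_normalizer_centralizer K (s.nK (s'.WT hv))) h
  exact (e _ (cm_left hv (s'.TW hd)) (s.cK (cm_left (s'.WT hv) (le_normalizer hd)) m)).elim id
    fun c => (z1 (s.a3_W a hz.1 (c ▸ m))).elim

theorem a3 : SectionalPRankLE 2 4 G := by
  obtain ⟨z, hz, z1, e⟩ := s.a3_z a s' a' n
  have k : ∀ d ∈ T ⊓ 𝐂(K), d ≠ 1 → z * d ∈ 𝐂(K') := fun d hd d1 => by
    obtain ⟨w, hw, e1⟩ := s'.a3_dec a' (s.a3_D a s' a' n hd.1 hd.2)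
    rcases e w hw ((Q.mul_mem_cancel_right (s.cK hd.1 hd.2)).1 (s'.a3_D a' s a (s.n_symm s' n)
      (mul_mem (s'.WT hw) hd.1) e1)) with c | c
    · exact (d1 (s.DD s' n hd.1 hd.2 (by simpa [c] using e1))).elim
    · exact c ▸ e1
  have k2 : ∀ d ∈ T ⊓ 𝐂(K), ∀ d' ∈ T ⊓ 𝐂(K), d ≠ 1 → d' ≠ 1 → d = d' := fun d hd d' hd' h1 h2 =>
    inv_mul_eq_one.1 (s.DD s' n (mul_mem (inv_mem hd) hd').1 (mul_mem (inv_mem hd) hd').2
      (by simpa [mul_assoc] using mul_mem (inv_mem (k d hd h1)) (k d' hd' h2)))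
  have dec : ∀ y ∈ Q, ∃ w ∈ W, w * y ∈ T ⊓ 𝐂(K) := fun y hy => by
    obtain ⟨w, hw, e⟩ := s.a3_dec a hy
    exact ⟨w, hw, mul_mem (s.WT hw) (s.QT hy), e⟩
  have c1 : Nat.card Q ≤ 2 * Nat.card (Q ⊓ W : Subgroup G) := idx2 fun x hx y hy h1 h2 => by
    obtain ⟨w, hw, e1⟩ := dec x hx
    obtain ⟨w', hw', e2⟩ := dec y⁻¹ (inv_mem hy)
    have := k2 _ e1 _ e2 (fun c => h1 (by rw [eq_inv_of_mul_eq_one_right c]; exact inv_mem hw))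
      fun c => h2 (by rw [← mul_inv_eq_one.1 c]; exact hw')
    rw [show x * y = w⁻¹ * (w * x) * y by group, this]
    simpa [mul_assoc] using mul_mem (inv_mem hw) hw'
  rw [inf_eq_right.2 s.WQ] at c1
  obtain ⟨x, h1, -, h3⟩ := a.ex
  have c2 : 2 < Nat.card W := (Set.two_lt_ncard_iff (s := (W : Set G))).2
    ⟨1, z, x * z * x⁻¹, one_mem W, hz.1, conj_mem_of_mem_normalizer (s.KW h1) hz.1, z1.symm,
      Ne.symm (mt conj_eq_one_iff.1 z1), fun c => z1 (h3 z hz.1 (conj_fix.1 c.symm).symm)⟩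
  have c3 := card_le_of_le s.WQ
  have c4 := a.c4
  refine sr_self (fun y hy => ?_) s.cQ ?_
  · obtain ⟨w, hw, e1⟩ := dec y hy
    have : w * y * (w * y) = 1 := by
      by_contra c
      have h1 : w * y ≠ 1 := fun e => c (by simp [e])
      exact h1 (by simpa using (k2 _ e1 _ (mul_mem e1 e1) h1 c).symm)
    rwa [mul_assoc, ← mul_assoc y, ← s.QW hy w hw, mul_assoc, ← mul_assoc, s.sq w hw, one_mul] at this
  · obtain ⟨m, hm⟩ := s.pQ.exists_card_eq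
    rw [hm] at c1 c3 ⊢
    rcases m with _ | _ | _ | _ | m <;> omega

end St

/-! ### Blocks of type `SL₂(q)` -/

variable {F : Type*} [Field F] [Finite F] {ρ ρ' : G → SL(2, F)} {ψ ψ' : G → Fin 2 → F}

namespace St

variable (s : St K T W Q) (k : NK F K W (T ⊓ K) ρ ψ)
include s k

theorem mem_of {x : G} (hx : x ∈ T) (h : ∃ b ∈ T ⊓ K, ∀ a ∈ W, ψ (b * x * a * (b * x)⁻¹) = ψ a) :
    ∃ b ∈ T ⊓ K, ∃ y ∈ Q, x = b * y := by
  obtain ⟨b, hb, e⟩ := h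
  have m := mul_mem hb.1 hx
  exact ⟨b⁻¹, inv_mem hb, _, s.syl _ m fun _ hk => k.ker (s.nK m) (s.TW m) e hk, by simp⟩

omit k in
theorem cm_dec {b y a : G} (hy : y ∈ Q) (ha : a ∈ W) : ⁅b * y, a⁆ = ⁅b, a⁆ := by
  rw [commutatorElement_def, commutatorElement_def, mul_assoc b, ← s.QW hy a ha]; group

theorem mem_of_cm {x : G} (hx : x ∈ T) (h : ∀ b ∈ T ⊓ K, ⁅x, b⁆ ∈ Q) :
    ∃ b ∈ T ⊓ K, ∃ y ∈ Q, x = b * y :=
  s.mem_of k hx (k.F2 (s.nK hx) (s.TW hx) (El2.of_mem s.pT hx) fun b hb =>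
    s.le_W s.QT s.KQ ⟨h b hb, cm_right (s.nK hx) hb.2⟩)

theorem cenZ {b y a : G} (hb : b ∈ T ⊓ K) (hy : y ∈ Q) (h : b * y ∉ Q) (ha : a ∈ W)
    (e : b * y * a = a * (b * y)) : ψ a 1 = 0 := by
  have := (k.ψ_up hb ha).1
  rw [← s.cm_dec hy ha, cm_eq_one.2 e, k.ψ_one] at this
  exact (mul_eq_zero.1 this.symm).resolve_left fun c => h (mul_mem (s.WQ ((k.memA hb).1 c)) hy)

variable (s' : St K' T W' Q') (n : ¬ W' ≤ Q)
include s' n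

theorem W'_le {x : G} (hx : x ∈ W') : ∃ b ∈ T ⊓ K, ∃ y ∈ Q, x = b * y := by
  have xT := s'.WT hx
  by_cases c : ∃ b ∈ T ⊓ K, ∃ y ∈ Q, b * y ∈ W' ∧ b * y ∉ Q
  · obtain ⟨b, hb, y, hy, h1, h2⟩ := c
    refine s.mem_of k xT (k.F1 (s.nK xT) (s.TW xT) (fun a ha => ?_) fun z hz e => ?_)
    · have m := s'.cmW s (s.n_symm s' n) hx ha
      have := s.cenZ k hb hy h2 m.2 (comm2 s'.sq h1 m.1)
      rw [commutatorElement_def, inv_of_sq (s.sq a ha),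
        k.ψ_mul' (conj_mem_of_mem_normalizer (s.TW xT) ha) ha] at this
      linear_combination this - k.add_self (ψ a 1)
    · obtain ⟨a, ha, e1⟩ := k.exc' hb (fun c => h2 (mul_mem (s.WQ c) hy)) e
      rw [← s.cm_dec hy ha] at e1
      have m := s'.cmW s (s.n_symm s' n) h1 ha
      rw [← k.ψ_cj_eq (s.nK xT) (s.TW xT) m.2 hz e1, conj_fix.2 (comm2 s'.sq hx m.1), e1]
  · refine s.mem_of_cm k xT fun b hb => by_contra fun e => c ⟨_, ⟨cm_left xT (le_normalizer hb.1),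
      cm_right (s.nK xT) hb.2⟩, 1, one_mem _, ?_, ?_⟩ <;> rw [mul_one]
    exacts [cm_left hx (s'.TW hb.1), e]

theorem cenW {a : G} (ha : a ∈ W) (h : a ∈ Q') : ψ a 1 = 0 := by
  obtain ⟨v, hv, hn⟩ := SetLike.not_le_iff_exists.1 n
  obtain ⟨b, hb, y, hy, rfl⟩ := s.W'_le k s' n hv
  exact s.cenZ k hb hy hn ha (s'.QW h _ hv)

variable (k' : NK F K' W' (T ⊓ K') ρ' ψ')
include k'

theorem P_le {b : G} (hb : b ∈ T ⊓ K) : ∃ v ∈ W', ∃ y ∈ Q, b = v * y := by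
  obtain ⟨a, ha, ea⟩ := k.exA 1
  have f : ∀ b ∈ T ⊓ K, ∀ y ∈ Q, ψ ⁅b * y, a⁆ 0 = ρ b 0 1 := fun b hb y hy => by
    rw [s.cm_dec hy ha, (k.ψ_up hb ha).1, ea, mul_one]
  have c1 := card_coord (X := W') (Y := Q) (f := fun v => ψ ⁅v, a⁆ 0) (fun u hu v hv => by
    obtain ⟨b, hb, y, hy, rfl⟩ := s.W'_le k s' n hu
    obtain ⟨b', hb', y', hy', rfl⟩ := s.W'_le k s' n hv
    rw [f b hb y hy, f b' hb' y' hy', ← k.c_mul hb hb', ← f _ (mul_mem hb hb') _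
      (mul_mem (conj_mem_of_mem_normalizer' (s.TQ hb'.1) hy) hy'),
      show b * y * (b' * y') = b * b' * (b'⁻¹ * y * b' * y') by group]) fun u hu => by
      obtain ⟨b, hb, y, hy, rfl⟩ := s.W'_le k s' n hu
      rw [f b hb y hy, k.memA hb, Q.mul_mem_cancel_right hy]
      exact ⟨fun e => s.WQ e, fun e => s.le_W s.QT s.KQ ⟨e, hb.2⟩⟩
  have c2 := k'.card_A
  have c3 : Nat.card (W' ⊓ Q : Subgroup G) ≤ Nat.card k'.Z := card_le_of_le fun x hx =>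
    ⟨hx.1, s'.cenW k' s (s.n_symm s' n) hx.1 hx.2⟩
  obtain ⟨v, hv, e⟩ := (Set.eq_univ_iff_ncard _).2 (le_antisymm (Set.ncard_le_card _)
    (Nat.le_of_mul_le_mul_right ((Nat.mul_le_mul_left _ c3).trans (c2.symm.trans c1).le)
      Nat.card_pos)) ▸ Set.mem_univ (ρ b 0 1)
  obtain ⟨b', hb', y, hy, rfl⟩ := s.W'_le k s' n hv
  have := (k.memA (mul_mem hb' hb)).1 (by
    rw [k.c_mul hb' hb, ← (f b' hb' y hy).symm.trans e, k.add_self])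
  refine ⟨_, hv, (b' * y)⁻¹ * b, ?_, by group⟩
  rw [inv_of_sq (s'.sq _ hv), show b' * y * b = b' * y * b'⁻¹ * (b' * b) by group]
  exact mul_mem (conj_mem_of_mem_normalizer (s.TQ hb'.1) hy) (s.WQ this)

theorem Q'_le {x : G} (hx : x ∈ Q') : ∃ v ∈ W', ∃ y ∈ Q ⊓ Q', x = v * y := by
  obtain ⟨b, hb, y, hy, rfl⟩ := s.mem_of_cm k (s'.QT hx) fun b hb => by
    obtain ⟨v, hv, y, hy, rfl⟩ := s.P_le k s' n k' hb
    rw [show ⁅x, v * y⁆ = x * v * y * x⁻¹ * y⁻¹ * v⁻¹ by rw [commutatorElement_def]; group,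
      ← s'.QW hx v hv, show v * x * y * x⁻¹ * y⁻¹ * v⁻¹ = v * ⁅x, y⁆ * v⁻¹ by
        rw [commutatorElement_def]; group]
    exact conj_mem_of_mem_normalizer (s.TQ (s'.WT hv)) (cm_right (s.TQ (s'.QT hx)) hy)
  obtain ⟨v, hv, y', hy', rfl⟩ := s.P_le k s' n k' hb
  rw [mul_assoc] at hx ⊢
  exact ⟨v, hv, _, ⟨mul_mem hy' hy, (Q'.mul_mem_cancel_left (s'.WQ hv)).1 hx⟩, rfl⟩

theorem sqQ {x : G} (hx : x ∈ Q) : x * x = 1 := by
  have f : ∀ {K W Q : Subgroup G}, St K T W Q → ∀ v ∈ W, ∀ y ∈ Q, v * y * (v * y) = y * y :=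
    fun s v hv y hy => by
      rw [mul_assoc, ← mul_assoc y, ← s.QW hy v hv, mul_assoc, ← mul_assoc, s.sq v hv, one_mul]
  have g : ∀ X : Subgroup G, 𝐍(X) ≤ 𝐍(Subgroup.closure ((fun x => x * x) '' (X : Set G))) :=
    fun X g hg =>
    mem_normalizer_of_cj_le (by
      rw [cj_le_iff, Subgroup.closure_le]
      rintro _ ⟨y, hy, rfl⟩
      exact mem_cj.2 (Subgroup.subset_closure ⟨_, conj_mem_of_mem_normalizer hg hy, by simp [mul_assoc]⟩))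
  have e : (fun x => x * x) '' (Q : Set G) = (fun x => x * x) '' (Q' : Set G) := by
    ext z
    constructor <;> rintro ⟨y, hy, rfl⟩
    · obtain ⟨v, hv, y, h, rfl⟩ := s'.Q'_le k' s (s.n_symm s' n) k hy
      exact ⟨y, h.1, (f s v hv y h.2).symm⟩
    · obtain ⟨v, hv, y, h, rfl⟩ := s.Q'_le k s' n k' hy
      exact ⟨y, h.1, (f s' v hv y h.2).symm⟩
  exact mem_bot.1 ((s.triv s' n ((Subgroup.closure_le _).2 (by
    rintro _ ⟨y, hy, rfl⟩; exact s.QT (mul_mem hy hy))) (s.KQ.trans (g Q)) (e ▸ s'.KQ.trans (g Q'))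
    (s.TQ.trans (g Q))).le (Subgroup.subset_closure ⟨x, hx, rfl⟩))

theorem te : TE Q Q' := by
  have n' := s.n_symm s' n
  have sq := fun x (hx : x ∈ Q) => s.sqQ k s' n k' hx
  have sq' := fun x (hx : x ∈ Q') => s'.sqQ k' s n' k hx
  refine ⟨sq, sq', s'.QT.trans s.TQ, s.QT.trans s'.TQ, fun a ha b hb e => ?_,
    fun e => n' (s.WQ.trans e), fun e => n (s'.WQ.trans e)⟩
  obtain ⟨w, hw, y, hy, rfl⟩ := s'.Q'_le k' s n' k ha
  obtain ⟨v, hv, y', hy', rfl⟩ := s.Q'_le k s' n k' hb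
  refine or_iff_not_imp_right.2 fun c => mul_mem (s'.cT (s.WT hw) fun u hu => ?_) hy.1
  obtain ⟨b, hb', y1, hy1, e1⟩ := s.W'_le k s' n hv
  have wv : v * w = w * v := by
    rw [mul_assoc w, comm2 sq' hy.1 hb, ← mul_assoc w, ← mul_assoc (v * y'), mul_left_inj,
      mul_assoc v, ← s.QW hy'.1 w hw, ← mul_assoc, ← mul_assoc, mul_left_inj] at e
    exact e.symm
  have h0 := s.cenZ k hb' hy1 (fun m => c (mul_mem (e1 ▸ m) hy'.1)) hw (e1 ▸ wv)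
  -- `w` lies in `[W, v] C_W(K)`
  obtain ⟨a, ha, e2⟩ := k.exc' hb' (fun m => c (mul_mem (e1 ▸ mul_mem (s.WQ m) hy1) hy'.1)) h0
  rw [← s.cm_dec hy1 ha, ← e1] at e2
  have m := s'.cmW s n' hv ha
  have m1 := (k.ψ_eq m.2 hw).1 e2
  obtain ⟨b2, hb2, y2, hy2, rfl⟩ := s.W'_le k s' n hu
  have m2 : ⁅v, a⁆ * w ∈ 𝐂[b2 * y2] := mem_centralizer_singleton_iff.2 (by
    rw [← mul_assoc, ← m1 b2 hb2.2, mul_assoc, s.QW hy2 _ (mul_mem m.2 hw), mul_assoc])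
  exact (mem_centralizer_singleton_iff.1 (((𝐂[b2 * y2]).mul_mem_cancel_left
    (mem_centralizer_singleton_iff.2 (comm2 s'.sq m.1 hu))).1 m2)).symm

theorem J_eq : Q ⊔ Q' = T ⊓ K ⊔ Q := by
  refine le_antisymm (sup_le le_sup_right fun x hx => ?_) (sup_le (fun x hx => ?_) le_sup_left)
  · obtain ⟨v, hv, y, hy, rfl⟩ := s.Q'_le k s' n k' hx
    obtain ⟨b, hb, y', hy', rfl⟩ := s.W'_le k s' n hv
    exact mul_mem (mul_mem_sup hb hy') (mem_sup_right hy.1)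
  · obtain ⟨v, hv, y, hy, rfl⟩ := s.P_le k s' n k' hx
    exact mul_mem (mem_sup_right (s'.WQ hv)) (mem_sup_left hy)

theorem Q_eq : W ⊔ T ⊓ 𝐂(K) = Q := by
  refine le_antisymm (sup_le s.WQ fun x hx => s.cK hx.1 hx.2) fun x hx => ?_
  have te := s.te k s' n k'
  have PJ : T ⊓ K ≤ Q ⊔ Q' := le_sup_left.trans (s.J_eq k s' n k').ge
  obtain ⟨w, hw, y, hy, rfl⟩ := s'.Q'_le k' s (s.n_symm s' n) k hx
  obtain ⟨a, ha, e⟩ := k.dec (y := y) (fun b hb => te.cen hy.symm (PJ hb)) (fun l hl => by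
    rw [← commutatorElement_inv]; exact inv_mem (s.cmQ hy.2 hl)) fun z hz e b hb => by
      obtain ⟨v, hv, hn⟩ := SetLike.not_le_iff_exists.1 n
      obtain ⟨b1, hb1, y1, hy1, e1⟩ := s.W'_le k s' n hv
      obtain ⟨a, ha, e2⟩ := k.exc' hb1 (fun m => hn (e1 ▸ mul_mem (s.WQ m) hy1)) e
      rw [← s.cm_dec hy1 ha, ← e1] at e2
      have m := s'.cmW s (s.n_symm s' n) hv ha
      have := (k.ψ_eq m.2 hz).1 e2 b hb.2
      rwa [← mul_assoc, te.cen ⟨s.WQ m.2, s'.WQ m.1⟩ (PJ hb), mul_assoc, mul_assoc,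
        mul_right_inj] at this
  rw [show w * y = w * a⁻¹ * (a * y) by group]
  exact mul_mem_sup (mul_mem hw (inv_mem ha)) ⟨mul_mem (s.WT ha) (s.QT hy.2), e⟩

end St

theorem St.lin (hG : IsCharacteristicTwoType G) (s : St K T W Q) (k : NK F K W (T ⊓ K) ρ ψ)
    (hq : 2 < Nat.card F) (hγ : γ ∈ 𝐍(T)) (n : ¬ W ^ᶜ γ ≤ Q) : SectionalPRankLE 2 4 G := by
  have s' := s.cj hγ
  have k' := k.cj γ
  rw [cj_inf, cj_eq_of_mem_normalizer hγ] at k'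
  have te := s.te k s' n k'
  have e1 := s.Q_eq k s' n k'
  have e2 := s.J_eq k s' n k'
  obtain ⟨ρ1, ψ1, k1⟩ := k.ext (D := T ⊓ 𝐂(K)) inf_le_right fun d hd => te.sqA d (s.cK hd.1 hd.2)
  have e3 : T ⊓ K ⊔ T ⊓ 𝐂(K) = Q ⊔ Q ^ᶜ γ := by
    rw [e2, ← e1, ← sup_assoc, sup_eq_left.2 (le_inf s.WT s.WK)]
  have e4 : K ⊔ T ⊓ 𝐂(K) = K ⊔ Q := by rw [← e1, ← sup_assoc, sup_eq_left.2 s.WK]
  rw [e1, e3, e4] at k1
  have Q1 : Q ≠ ⊥ := fun e => s.W1 (le_bot_iff.1 (e ▸ s.WQ))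
  have NQ := s.uniq Q s.pQ Q1 s.KQ s.TQ
  refine Cg.main (γ := γ) ⟨k1, te, H69.le_normalizer_sup NQ le_rfl, ?_,
    fun e => n (cj_le_of_mem_normalizer s.WQ e), fun x hx h1 h2 => s.DD s' n (s.QT hx)
      (centralizer_anti le_sup_left h1) (centralizer_anti (cj_mono γ le_sup_left) h2), s.cQ, hq, ?_⟩ hG
  · rw [← cj_eq_self_iff]
    nth_rewrite 1 [e2]
    rw [cj_sup, cj_inf, cj_eq_of_mem_normalizer hγ, ← s'.J_eq k' s (s.n_symm s' n) k, sup_comm]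
  · rintro ⟨d, h1, h2, h3⟩
    obtain ⟨d, hd, d1, dT⟩ := exists_cen (X := Q ⊓ 𝐂((K ⊔ Q : Subgroup G))) (s.pQ.to_le inf_le_left)
      (fun e => h3 (mem_bot.1 (e.le ⟨h1, h2⟩))) s.pT (H69.le_normalizer_inf s.TQ
        (H69.le_normalizer_centralizer (H69.le_normalizer_sup s.nK s.TQ)))
    have c : ∀ X : Subgroup G, d ∈ 𝐂(X) → X ≤ 𝐍(zpowers d) := fun X h =>
      le_normalizer_of_le_centralizer (le_centralizer_iff.1 (zpowers_le.2 h))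
    have M := s.uniq _ (El2.of_mem s.pQ hd.1).isPGroup (mt zpowers_eq_bot.1 d1)
      (c K (centralizer_anti le_sup_left hd.2)) (c T dT)
    exact ⟨d, hd.1, hd.2, d1, (H69.centralizer_zpowers d ▸ centralizer_le_normalizer _).trans
      (M.trans (s.nQ (ea_cent te.ea)))⟩

end H23.PU
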