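import Mathlib
import Cfsg.Agent.Base
import Cfsg.Agent.Lib.TI2.PuE

/-!
# Pushing up in groups of characteristic 2 type, VI: blocks of type `A₅`
-/

set_option autoImplicit false
set_option linter.unusedSectionVars false
set_option maxRecDepth 100000
set_option synthInstance.maxSize 2000

namespace H23.PU

open Subgroup Cfsg H69 H45 H55.Two Gold H23.L3 Equiv Equiv.Perm
open scoped commutatorElement

/-- vectors -/
abbrev V5 := Fin 5 → ZMod 2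
/-- permutations -/
abbrev S5 := Perm (Fin 5)
/-- the permutation action -/
def act (σ : S5) (v : V5) : V5 := fun i => v (σ⁻¹ i)
/-- the vectors of weight four -/
def zz (i : Fin 5) : V5 := fun j => if j = i then 0 else 1
/-- even weight -/
def ev (v : V5) : Prop := v 0 + v 1 + v 2 + v 3 + v 4 = 0
instance : DecidablePred ev := fun v => by unfold ev; infer_instance

theorem act_mul (σ τ : S5) (v : V5) : act (σ * τ) v = act σ (act τ v) := rfl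
theorem act_add (σ : S5) (u v : V5) : act σ (u + v) = act σ u + act σ v := rfl
theorem act_zz (σ : S5) (i : Fin 5) : act σ (zz i) = zz (σ i) := by
  ext j; simp only [act, zz, Perm.inv_eq_iff_eq]
theorem fix_cj {g σ : S5} (h : g 4 = 4) (h' : σ 4 = 4) : (g * σ * g⁻¹) 4 = 4 := by
  rw [Perm.mul_apply, Perm.mul_apply, Perm.inv_eq_iff_eq.2 h.symm, h', h]
theorem ev_iff (v : V5) : ev v ↔ ∑ i, v i = 0 := by rw [Fin.sum_univ_five]; rfl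
theorem ev_act (σ : S5) {v : V5} (h : ev v) : ev (act σ v) := by
  rw [ev_iff] at h ⊢
  rw [← h]; exact Equiv.sum_comp σ⁻¹ v
theorem v_add {u v : V5} : u + v = 0 ↔ u = v := by
  rw [add_eq_zero_iff_eq_neg, show -v = v from funext fun i => ZMod.neg_eq_self_mod_two _]

theorem d0 : (∀ i, ev (zz i) ∧ zz i ≠ 0) ∧ ∀ i j, zz i = zz j → i = j := by decide +kernel
theorem d1 : ∀ i j l, zz i + zz j ≠ zz l := by decide +kernel
theorem d2 : ∀ v, ev v → v = 0 ∨ (∃ i, v = zz i) ∨ ∃ i j l x : Fin 5, j ≠ l ∧ j ≠ x ∧ i ≠ l ∧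
    i ≠ x ∧ v + act (swap j l * swap j x) v = act (swap i l * swap i x) v := by decide +kernel
theorem d3 : ∀ v, ev v → (∃ i, v = zz i) ∨ ∃ i j, v = zz i + zz j := by decide +kernel
theorem d4 : ∀ σ : S5, σ * swap 0 1 = swap 0 1 * σ → σ * swap 2 3 = swap 2 3 * σ →
   σ = 1 ∨ σ = swap 0 1 ∨ σ = swap 2 3 ∨ σ = swap 0 1 * swap 2 3 := by decide +kernel
theorem d5 : ∀ σ : S5, σ * σ = 1 → sign σ ≠ 1 → σ 4 = 4 → (∃ g : S5, g 4 = 4 ∧
    g * σ * g⁻¹ = swap 0 1) ∧ ∃ v : S5, v 4 = 4 ∧ v * v = 1 ∧ sign v = 1 ∧ σ * v ≠ v * σ := by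
  decide +kernel
theorem d6 : ∀ σ : S5, σ * σ = 1 → sign σ = 1 → σ ≠ 1 → ∃ u v, ev u ∧ ev v ∧ act σ u ≠ u ∧
    act σ v ≠ v ∧ act σ (u + v) ≠ u + v := by decide +kernel
theorem d7 : ∀ σ : S5, σ * σ = 1 → sign σ = 1 → σ ≠ 1 → ∀ τ : S5, τ * τ = 1 → sign τ = 1 → τ ≠ 1 →
    σ * τ ≠ 1 → σ * τ = τ * σ → ∃ u, ev u ∧ act τ (act σ u + u) ≠ act σ u + u := by decide +kernel
theorem d8 : ∀ σ : S5, σ 4 = 4 → σ * σ = 1 → sign σ = 1 → ∀ τ : S5, τ 4 = 4 → τ * τ = 1 →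
    sign τ = 1 → σ * τ * (σ * τ) = 1 := by decide +kernel
theorem d9 : ∀ v, ev v → act (swap 0 1 * swap 2 3) v = v →
    ∃ u, ev u ∧ act (swap 0 1 * swap 2 3) u + u = v := by decide +kernel
theorem d10 : ∀ v, ev v → act (swap 0 1 * swap 2 3) v = v → act (swap 0 2 * swap 1 3) v = v →
    act (swap 0 2 * swap 0 1) v = v := by decide +kernel
theorem d11 : ∀ σ : S5, σ 4 = 4 → σ * σ = 1 → sign σ = 1 → σ ≠ 1 → σ = swap 0 1 * swap 2 3 ∨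
    σ * (swap 0 1 * σ * (swap 0 1)⁻¹) = swap 0 1 * swap 2 3 := by decide +kernel
theorem d12 : ∀ α : Fin 4 → ZMod 2, ∃ w, ev w ∧ ∀ i : Fin 4, w i.castSucc + w i.succ = α i := by
  decide +kernel
theorem d14 : ∀ i : Fin 4, (∃ g : S5, sign g = 1 ∧ g * swap 0 1 * g⁻¹ = swap i.castSucc i.succ) ∧
    ∀ u v : V5, u i.castSucc + u i.succ = v i.castSucc + v i.succ →
      act (swap i.castSucc i.succ) u + u = act (swap i.castSucc i.succ) v + v := by decide +kernel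
theorem d13 : (Finset.univ.filter fun v =>
    ev v ∧ act (swap 0 1) v = v ∧ act (swap 2 3) v = v).card = 4 := by decide +kernel

variable {G : Type*} [Group G] [Finite G] {K T W Q K' W' Q' E : Subgroup G} {γ : G}
  {π π' : G → S5} {ψ ψ' : G → V5}

/-- `W / C_W(K)` is the even weight module for `K / W ≅ A₅`; `M` acts on it through `S₅`. -/
structure A5 (M K W : Subgroup G) (π : G → S5) (ψ : G → V5) : Prop where
  sq : ∀ a ∈ W, a * a = 1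
  nrm : 𝐍(K) ≤ 𝐍(W)
  le : M ≤ 𝐍(K)
  KM : K ≤ M
  ψ_mul : ∀ u ∈ W, ∀ v ∈ W, ψ (u * v) = ψ u + ψ v
  ψ_ev : ∀ u ∈ W, ev (ψ u)
  ψ_surj : ∀ v, ev v → ∃ u ∈ W, ψ u = v
  ψ_ker : ∀ v ∈ W, ψ v = 0 ↔ v ∈ 𝐂(K)
  surj : ∀ σ, sign σ = 1 → ∃ x ∈ K, π x = σ
  even : ∀ x ∈ K, sign (π x) = 1
  π_ker : ∀ x ∈ K, π x = 1 → x ∈ W
  equiv : ∀ x ∈ M, ∀ v ∈ W, ψ (x * v * x⁻¹) = act (π x) (ψ v)

namespace A5

variable {M : Subgroup G} (a : A5 M K W π ψ)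
include a

theorem cjW {x w : G} (hx : x ∈ M) (hw : w ∈ W) : x * w * x⁻¹ ∈ W :=
  conj_mem_of_mem_normalizer (a.nrm (a.le hx)) hw

theorem ψ_eq {u v : G} (hu : u ∈ W) (hv : v ∈ W) : ψ u = ψ v ↔ u * v ∈ 𝐂(K) := by
  rw [← a.ψ_ker _ (mul_mem hu hv), a.ψ_mul u hu v hv, v_add]

theorem faith {σ τ : S5} (h : ∀ w ∈ W, act σ (ψ w) = act τ (ψ w)) : σ = τ := Equiv.ext fun i => by
  obtain ⟨w, hw, e⟩ := a.ψ_surj _ (d0.1 i).1
  simpa [e, act_zz] using d0.2 _ _ (by simpa [e, act_zz] using h w hw)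

theorem π_mul {x y : G} (hx : x ∈ M) (hy : y ∈ M) : π (x * y) = π x * π y := a.faith fun w hw => by
  rw [act_mul, ← a.equiv y hy w hw, ← a.equiv x hx _ (a.cjW hy hw), ← a.equiv _ (mul_mem hx hy) w hw]
  congr 1; group

theorem π_eq_one {x : G} (hx : x ∈ M) (h : x ∈ 𝐂(W)) : π x = 1 := a.faith fun w hw => by
  rw [← a.equiv x hx w hw, conj_eq_of_mem_centralizer h hw]; rfl

theorem π_one : π 1 = 1 := a.π_eq_one (one_mem _) (one_mem _)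

theorem π_inv {x : G} (hx : x ∈ M) : π x⁻¹ = (π x)⁻¹ := by
  rw [eq_inv_iff_mul_eq_one, ← a.π_mul (inv_mem hx) hx, inv_mul_cancel, a.π_one]

theorem π_cj {x y : G} (hx : x ∈ M) (hy : y ∈ M) : π (x * y * x⁻¹) = π x * π y * (π x)⁻¹ := by
  rw [a.π_mul (mul_mem hx hy) (inv_mem hx), a.π_mul hx hy, a.π_inv hx]

theorem π_comm {x y : G} (hx : x ∈ M) (hy : y ∈ M) (h : x * y = y * x) : π x * π y = π y * π x := by
  rw [← a.π_mul hx hy, ← a.π_mul hy hx, h]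

theorem π_sq {x : G} (hx : x ∈ M) (h : x * x = 1) : π x * π x = 1 := by
  rw [← a.π_mul hx hx, h, a.π_one]

theorem ψ_cm {x w : G} (hx : x ∈ M) (hw : w ∈ W) : ψ ⁅x, w⁆ = act (π x) (ψ w) + ψ w := by
  rw [commutatorElement_def, inv_of_sq (a.sq w hw), a.ψ_mul _ (a.cjW hx hw) w hw, a.equiv x hx w hw]

theorem fix {x w : G} (hx : x ∈ M) (hw : w ∈ W) (h : x * w = w * x) : act (π x) (ψ w) = ψ w := by
  rw [← a.equiv x hx w hw, conj_fix.2 h]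

theorem cj (g : G) : A5 (M ^ᶜ g) (K ^ᶜ g) (W ^ᶜ g) (fun x => π (g⁻¹ * x * g))
    fun x => ψ (g⁻¹ * x * g) := by
  refine ⟨fun w hw => ?_, ?_, cj_normalizer K g ▸ cj_mono g a.le, cj_mono g a.KM,
    fun x hx y hy => ?_, fun x hx => a.ψ_ev _ (mem_cj.1 hx), fun v hv => ?_, fun v hv => ?_,
    fun v hv => ?_, fun x hx => a.even _ (mem_cj.1 hx),
    fun x hx e => mem_cj.2 (a.π_ker _ (mem_cj.1 hx) e), fun x hx v hv => ?_⟩
  · obtain ⟨w, hb, rfl⟩ := mem_cj'.1 hw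
    rw [conj_mul, a.sq w hb]; simp
  · rw [← cj_normalizer, ← cj_normalizer]; exact cj_mono g a.nrm
  · rw [cj_mul, a.ψ_mul _ (mem_cj.1 hx) _ (mem_cj.1 hy)]
  · obtain ⟨x, hx, rfl⟩ := a.ψ_surj v hv
    exact ⟨_, cj_mem g hx, by simp [mul_assoc]⟩
  · rw [a.ψ_ker _ (mem_cj.1 hv), ← cj_centralizer, mem_cj]
  · obtain ⟨x, hx, rfl⟩ := a.surj v hv
    exact ⟨_, cj_mem g hx, by simp [mul_assoc]⟩
  · rw [← a.equiv _ (mem_cj.1 hx) _ (mem_cj.1 hv)]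
    congr 1; group

theorem perm (g : S5) : A5 M K W (fun x => g * π x * g⁻¹) fun x => act g (ψ x) := by
  refine ⟨a.sq, a.nrm, a.le, a.KM, fun u hu v hv => by rw [a.ψ_mul u hu v hv, act_add],
    fun u hu => ev_act g (a.ψ_ev u hu), fun v hv => ?_, fun v hv => ?_, fun σ h => ?_,
    fun x hx => by simp [a.even x hx], fun x hx e => a.π_ker x hx (conj_eq_one_iff.1 e),
    fun x hx v hv => by rw [a.equiv x hx v hv, ← act_mul, ← act_mul, inv_mul_cancel_right]⟩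
  · obtain ⟨u, hu, e⟩ := a.ψ_surj _ (ev_act g⁻¹ hv)
    exact ⟨u, hu, by rw [e, ← act_mul, mul_inv_cancel]; rfl⟩
  · rw [← a.ψ_ker v hv]
    exact ⟨fun e => funext fun i => by simpa [act] using congrFun e (g i), fun e => by rw [e]; rfl⟩
  · obtain ⟨x, hx, e⟩ := a.surj (g⁻¹ * σ * g) (by simp [h])
    exact ⟨x, hx, by rw [e]; group⟩

theorem ext : ∃ π, A5 𝐍(K) K W π ψ := by
  have key : ∀ m ∈ 𝐍(K), ∃ σ, ∀ w ∈ W, ψ (m * w * m⁻¹) = act σ (ψ w) := fun m hm => by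
    have mW : ∀ w ∈ W, m * w * m⁻¹ ∈ W := fun w hw => conj_mem_of_mem_normalizer (a.nrm hm) hw
    have f : ∀ u ∈ W, ∀ v ∈ W, ψ (m * u * m⁻¹) = ψ (m * v * m⁻¹) ↔ ψ u = ψ v := fun u hu v hv => by
      rw [a.ψ_eq (mW u hu) (mW v hv), a.ψ_eq hu hv, conj_mul]
      exact (mem_normalizer_iff.1 (normalizer_le_normalizer_centralizer K hm) _).symm
    choose z hz ez using fun i => a.ψ_surj _ (d0.1 i).1
    have g : ∀ i, ∃ j, ψ (m * z i * m⁻¹) = zz j := fun i => by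
      rcases d2 _ (a.ψ_ev _ (mW _ (hz i))) with e | e | ⟨i', j, l, x, h1, h2, h3, h4, e⟩
      · rw [← (a.ψ_ker _ (mW 1 (one_mem _))).2 (by simp), f _ (hz i) _ (one_mem _), ez,
          (a.ψ_ker _ (one_mem _)).2 (one_mem _)] at e
        exact ((d0.1 i).2 e).elim
      · exact e
      obtain ⟨k, hk, e1⟩ := a.surj (swap j l * swap j x) (by simp [h1, h2])
      obtain ⟨k', hk', e2⟩ := a.surj (swap i' l * swap i' x) (by simp [h3, h4])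
      have m1 := a.KM (conj_mem_of_mem_normalizer' hm hk)
      have m2 := a.KM (conj_mem_of_mem_normalizer' hm hk')
      have c : ∀ k : G, k * (m * z i * m⁻¹) * k⁻¹ =
        m * (m⁻¹ * k * m * z i * (m⁻¹ * k * m)⁻¹) * m⁻¹ := fun k => by group
      rw [← e1, ← e2, ← a.equiv _ (a.KM hk) _ (mW _ (hz i)), ← a.equiv _ (a.KM hk') _ (mW _ (hz i)),
        c, c, ← a.ψ_mul _ (mW _ (hz i)) _ (mW _ (a.cjW m1 (hz i))), conj_mul,
        f _ (mul_mem (hz i) (a.cjW m1 (hz i))) _ (a.cjW m2 (hz i)), a.ψ_mul _ (hz i) _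
          (a.cjW m1 (hz i)), a.equiv _ m1 _ (hz i), a.equiv _ m2 _ (hz i), ez, act_zz, act_zz] at e
      exact (d1 _ _ _ e).elim
    choose σ hσ using g
    refine ⟨Equiv.ofBijective σ (Finite.injective_iff_bijective.1 fun i j e => d0.2 _ _ (by
      rw [← ez, ← ez, ← f _ (hz i) _ (hz j), hσ, hσ, e])), fun w hw => ?_⟩
    rcases d3 _ (a.ψ_ev w hw) with ⟨i, e⟩ | ⟨i, j, e⟩
    · rw [e, act_zz, (f w hw _ (hz i)).2 (e.trans (ez i).symm), hσ]; rfl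
    · rw [e, act_add, act_zz, act_zz, (f w hw _ (mul_mem (hz i) (hz j))).2 (by
        rw [e, a.ψ_mul _ (hz i) _ (hz j), ez, ez]), ← conj_mul, a.ψ_mul _ (mW _ (hz i)) _
          (mW _ (hz j)), hσ, hσ]; rfl
  choose! π1 h using key
  have e : ∀ x ∈ K, π1 x = π x := fun x hx => a.faith fun w hw => by
    rw [← h x (le_normalizer hx) w hw, a.equiv x (a.KM hx) w hw]
  refine ⟨π1, a.sq, a.nrm, le_rfl, le_normalizer, a.ψ_mul, a.ψ_ev, a.ψ_surj, a.ψ_ker, fun σ hσ => ?_,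
    fun x hx => e x hx ▸ a.even x hx, fun x hx => e x hx ▸ a.π_ker x hx, h⟩
  obtain ⟨x, hx, rfl⟩ := a.surj σ hσ
  exact ⟨x, hx, e x hx⟩

theorem exists_fix (hT : IsPGroup 2 T) (hl : T ≤ M) :
    ∃ π ψ, A5 M K W π ψ ∧ ∀ t ∈ T, π t 4 = 4 := by
  let f : T →* S5 := MonoidHom.mk' (fun x => π x) fun x y => a.π_mul (hl x.2) (hl y.2)
  obtain ⟨l, h⟩ := (hT.of_surjective f.rangeRestrict f.rangeRestrict_surjective).nonempty_fixed_point_of_prime_not_dvd_card (Fin 5) (by simp)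
  refine ⟨_, _, a.perm (swap l 4), fun t ht => ?_⟩
  have : π t l = l := h (f.rangeRestrict ⟨t, ht⟩)
  simp [this]

/-- the preimage of the four-group -/
def X : Subgroup G where
  carrier := {k | k ∈ K ∧ π k 4 = 4 ∧ π k * π k = 1}
  mul_mem' hx hy := ⟨mul_mem hx.1 hy.1, by
    rw [a.π_mul (a.KM hx.1) (a.KM hy.1)]
    exact ⟨by rw [Perm.mul_apply, hy.2.1, hx.2.1],
      d8 _ hx.2.1 hx.2.2 (a.even _ hx.1) _ hy.2.1 hy.2.2 (a.even _ hy.1)⟩⟩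
  one_mem' := ⟨one_mem _, by simp [a.π_one]⟩
  inv_mem' hx := ⟨inv_mem hx.1, by rw [a.π_inv (a.KM hx.1), inv_of_sq hx.2.2]; exact hx.2⟩

theorem nX {m : G} (hm : m ∈ M) (h : π m 4 = 4) : m ∈ 𝐍(a.X) :=
  mem_normalizer_of_cj_le fun x hx => by
    obtain ⟨x, ⟨h1, h2, h3⟩, rfl⟩ := mem_cj'.1 hx
    refine ⟨conj_mem_of_mem_normalizer (a.le hm) h1, ?_⟩
    rw [a.π_cj hm (a.KM h1), conj_mul, h3]
    exact ⟨fix_cj h h2, by simp⟩

end A5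

namespace St

variable (s : St K T W Q) (a : A5 𝐍(K) K W π ψ)
include s a

theorem π_ker {x : G} (hx : x ∈ T) (h : π x = 1) : x ∈ Q := s.syl x hx fun k hk =>
  have m := conj_mem_of_mem_normalizer (s.nK hx) hk
  a.π_ker _ (mul_mem m (inv_mem hk)) (by
    rw [a.π_mul (a.KM m) (a.KM (inv_mem hk)), a.π_cj (s.nK hx) (a.KM hk), h, a.π_inv (a.KM hk)]
    simp)

theorem π_Q {x : G} (hx : x ∈ Q) : π x = 1 := a.π_eq_one (s.nK (s.QT hx)) (s.QW hx)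

variable (fx : ∀ t ∈ T, π t 4 = 4)
include fx

theorem X_le : a.X ≤ T :=
  (s.sylP.le_of_le_normalizer (R := a.X) (isPGroup_iff_mem.2 fun x hx => ⟨2, by
    rw [← s.sq _ (a.π_ker _ (mul_mem hx.1 hx.1) ((a.π_mul (a.KM hx.1) (a.KM hx.1)).trans hx.2.2))]
    simp only [← pow_two, ← pow_mul]⟩) (fun _ hx => hx.1)
      fun t ht => a.nX (s.nK ht.1) (fx t ht.1)).trans inf_le_left

theorem exP {v : S5} (h1 : v 4 = 4) (h2 : v * v = 1) (h3 : sign v = 1) : ∃ p ∈ a.X, π p = v := by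
  obtain ⟨p, hp, rfl⟩ := a.surj v h3
  exact ⟨p, ⟨hp, h1, h2⟩, rfl⟩

theorem ev_inv (hE : E ≤ T) (hn : T ≤ 𝐍(E)) (h2 : ∀ e ∈ E, e * e = 1) (h : ¬ E ≤ Q) :
    ∃ e ∈ E, sign (π e) = 1 ∧ π e ≠ 1 := by
  obtain ⟨e, he, h1⟩ := SetLike.not_le_iff_exists.1 h
  have eM := s.nK (hE he)
  by_cases c : sign (π e) = 1
  · exact ⟨e, he, c, mt (s.π_ker a (hE he)) h1⟩
  obtain ⟨v, v1, v2, v3, v4⟩ := (d5 _ (a.π_sq eM (h2 e he)) c (fx e (hE he))).2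
  obtain ⟨p, hp, rfl⟩ := s.exP a fx v1 v2 v3
  have pM := a.KM hp.1
  refine ⟨⁅e, p⁆, cm_left he (hn (s.X_le a fx hp)), a.even _ (cm_right eM hp.1), ?_⟩
  rwa [commutatorElement_def, a.π_mul (mul_mem (mul_mem eM pM) (inv_mem eM)) (inv_mem pM),
    a.π_cj eM pM, a.π_inv pM, Ne, mul_inv_eq_one, mul_inv_eq_iff_eq_mul]

theorem exists_swap (s' : St K' T W' Q') (n : ¬ W' ≤ Q) (a' : A5 𝐍(K') K' W' π' ψ')
    (fx' : ∀ t ∈ T, π' t 4 = 4) :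
    ∃ π ψ, A5 𝐍(K) K W π ψ ∧ (∀ t ∈ T, π t 4 = 4) ∧ ∃ u ∈ W', π u = swap 0 1 := by
  obtain ⟨w, hw, w1, w2⟩ := s'.ev_inv a' fx' s.WT s.TW s.sq (s.n_symm s' n)
  have wM := s'.nK (s.WT hw)
  obtain ⟨u, v, h1, h2, h3, h4, h5⟩ := d6 _ (a'.π_sq wM (s.sq w hw)) w1 w2
  obtain ⟨u, hu, rfl⟩ := a'.ψ_surj u h1
  obtain ⟨v, hv, rfl⟩ := a'.ψ_surj v h2
  rw [← a'.ψ_mul u hu v hv] at h5
  have k : ∀ u ∈ W', act (π' w) (ψ' u) ≠ ψ' u → π u ≠ 1 := fun u hu h e =>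
    h (a'.fix wM hu (s.QW (s.π_ker a (s'.WT hu) e) w hw))
  have M : ∀ u ∈ W', u ∈ 𝐍(K) := fun u hu => s.nK (s'.WT hu)
  obtain ⟨x, hx, e⟩ : ∃ x ∈ W', sign (π x) ≠ 1 := by
    by_contra! c
    obtain ⟨y, y1, y2⟩ := d7 _ (a.π_sq (M u hu) (s'.sq u hu)) (c u hu) (k u hu h3) _
      (a.π_sq (M v hv) (s'.sq v hv)) (c v hv) (k v hv h4)
      (a.π_mul (M u hu) (M v hv) ▸ k _ (mul_mem hu hv) h5) (a.π_comm (M u hu) (M v hv)
        (comm2 s'.sq hu hv))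
    obtain ⟨y, hy, rfl⟩ := a.ψ_surj y y1
    have m := s'.cmW s (s.n_symm s' n) hu hy
    exact y2 (a.ψ_cm (M u hu) hy ▸ a.fix (M v hv) m.2 (comm2 s'.sq hv m.1))
  obtain ⟨g, g1, g2⟩ := (d5 _ (a.π_sq (M x hx) (s'.sq x hx)) e (fx x (s'.WT hx))).1
  exact ⟨_, _, a.perm g, fun t ht => fix_cj g1 (fx t ht), x, hx, g2⟩

variable (s' : St K' T W' Q') (n : ¬ W' ≤ Q) (ex : ∃ u ∈ W', π u = swap 0 1)
include s' n ex

theorem ex2 : ∃ u ∈ W', π u = swap 2 3 := by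
  obtain ⟨u, hu, e⟩ := ex
  obtain ⟨p, hp, e'⟩ := s.exP a fx (v := swap 0 2 * swap 1 3) (by decide) (by decide) (by decide)
  exact ⟨_, conj_mem_of_mem_normalizer (s'.TW (s.X_le a fx hp)) hu, by
    rw [a.π_cj (a.KM hp.1) (s.nK (s'.WT hu)), e, e']; decide⟩

theorem cen5 {m : G} (h : ∀ u ∈ W', π m * π u = π u * π m) : ∃ u ∈ W', π u = π m := by
  obtain ⟨u, hu, e⟩ := id ex
  obtain ⟨v, hv, e'⟩ := s.ex2 a fx s' n ex
  rcases d4 _ (e ▸ h u hu) (e' ▸ h v hv) with c | c | c | c <;> rw [c]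
  exacts [⟨1, one_mem _, a.π_one⟩, ⟨u, hu, e⟩, ⟨v, hv, e'⟩, ⟨_, mul_mem hu hv, by
    rw [a.π_mul (s.nK (s'.WT hu)) (s.nK (s'.WT hv)), e, e']⟩]

theorem D5 {d : G} (h1 : d ∈ T) (h2 : d ∈ 𝐂(K')) : d = 1 := by
  by_contra d1
  obtain ⟨d, hd, d1, dT⟩ := exists_cen (X := T ⊓ 𝐂(K')) (s.pT.to_le inf_le_left)
    (fun e => d1 (mem_bot.1 (e.le ⟨h1, h2⟩))) s.pT (H69.le_normalizer_inf le_normalizer
      (H69.le_normalizer_centralizer s'.nK))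
  have c : ∀ X : Subgroup G, d ∈ 𝐂(X) → X ≤ 𝐍(zpowers d) := fun X h =>
    le_normalizer_of_le_centralizer (le_centralizer_iff.1 (zpowers_le.2 h))
  have M := s'.uniq _ (El2.of_mem s.pT hd.1).isPGroup (mt zpowers_eq_bot.1 d1) (c K' hd.2) (c T dT)
  obtain ⟨k, hk, ek⟩ := a.surj (swap 0 2 * swap 0 1) (by decide)
  have kM := a.KM hk
  have k3 : k ^ 3 ∈ W := a.π_ker _ (pow_mem hk 3) (by
    rw [pow_three, a.π_mul kM (mul_mem kM kM), a.π_mul kM kM, ek]; decide)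
  have x1 : π (k ^ 4) = swap 0 2 * swap 0 1 := by
    rw [pow_succ, a.π_mul (pow_mem kM 3) kM, s.π_Q a (s.WQ k3), one_mul, ek]
  have x2 : (orderOf (k ^ 4)).Coprime 2 := Nat.Coprime.coprime_dvd_left (orderOf_dvd_of_pow_eq_one
    (n := 3) (by rw [← pow_mul, show 4 * 3 = (3 + 3) * 2 by norm_num, pow_mul, pow_add,
      s.sq _ k3, one_pow])) (by norm_num)
  have x3 := pow_mem hk 4
  generalize k ^ 4 = x at x1 x2 x3
  have xM := a.KM x3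
  have nX := normalizer_le_normalizer_centralizer _ (a.nX xM (by rw [x1]; decide))
  have pW := s.pT.to_le s.WT
  have c1 : W ⊓ 𝐂(a.X) ≤ 𝐂[x] := H70.le_centralizer_of_commutator_mem (D := W ⊓ 𝐂(K))
    (pW.to_le inf_le_left) x2 (fun y hy => mem_centralizer_singleton_iff.2 (hy.2 x x3).symm)
    fun y hy => by
      obtain ⟨p, hp, e⟩ := s.exP a fx (v := swap 0 1 * swap 2 3) (by decide) (by decide) (by decide)
      obtain ⟨p', hp', e'⟩ := s.exP a fx (v := swap 0 2 * swap 1 3) (by decide) (by decide) (by decide)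
      have m : ⁅x, y⁆ ∈ W := cm_right (s.KW x3) hy.1
      have := (a.ψ_ker _ m).1 (by
        rw [a.ψ_cm xM hy.1, v_add, x1]
        exact d10 _ (a.ψ_ev y hy.1) (e ▸ a.fix (a.KM hp.1) hy.1 (hy.2 p hp))
          (e' ▸ a.fix (a.KM hp'.1) hy.1 (hy.2 p' hp')))
      rw [← inv_mem_iff, ← commutatorElement_def, commutatorElement_inv]
      exact ⟨m, this⟩
  have c2 : zpowers d ≤ 𝐂[x] := H70.le_centralizer_of_commutator_mem (pW.to_le inf_le_left) x2 c1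
    fun y hy => ⟨s.cmQ (zpowers_le.2 (s.cQ (centralizer_anti s.QT dT)) hy) x3,
      cm_left (zpowers_le.2 (centralizer_anti (s.X_le a fx) dT) hy) nX⟩
  obtain ⟨u, hu, e⟩ := ex
  have uM := s.nK (s'.WT hu)
  have := a.π_comm (mul_mem (mul_mem xM uM) (inv_mem xM)) uM (comm2 s'.sq (conj_mem_of_mem_normalizer
    (s'.nW (M (centralizer_le_normalizer _ fun y hy => mem_centralizer_singleton_iff.1 (c2 hy)))) hu) hu)
  rw [a.π_cj xM uM, e, x1] at this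
  exact absurd this (by decide)

theorem Q'_le5 {x : G} (hx : x ∈ Q') : ∃ u ∈ W', u * x ∈ Q := by
  have M := s.nK (s'.QT hx)
  obtain ⟨u, hu, e⟩ := s.cen5 a fx s' n ex (m := x) fun u hu =>
    a.π_comm M (s.nK (s'.WT hu)) (s'.QW hx u hu).symm
  exact ⟨u⁻¹, inv_mem hu, s.π_ker a (mul_mem (inv_mem (s'.WT hu)) (s'.QT hx)) (by
    rw [a.π_mul (inv_mem (s.nK (s'.WT hu))) M, a.π_inv (s.nK (s'.WT hu)), e, inv_mul_cancel])⟩

variable (hD : ∀ d ∈ T, d ∈ 𝐂(K) → d = 1)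
include hD

omit fx s' n ex in
theorem ψ_inj {u v : G} (hu : u ∈ W) (hv : v ∈ W) (e : ψ u = ψ v) : u = v := by
  rw [← inv_of_sq (s.sq v hv)]
  exact eq_inv_of_mul_eq_one_left (hD _ (s.WT (mul_mem hu hv)) ((a.ψ_eq hu hv).1 e))

theorem le_W5 {y : G} (h1 : y ∈ Q) (h2 : y ∈ Q') : y ∈ W := by
  obtain ⟨u, hu, e⟩ := id ex
  have uM := s.nK (s'.WT hu)
  have cm : K ⊔ zpowers u ≤ 𝐍(K) := sup_le le_normalizer (zpowers_le.2 uM)
  have key : ∀ i : Fin 4, ∃ t ∈ K ⊔ zpowers u, π t = swap i.castSucc i.succ ∧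
      ∃ w ∈ W, ⁅t, y⁆ = ⁅t, w⁆ := fun i => by
    obtain ⟨g, g1, g2⟩ := (d14 i).1
    obtain ⟨k, hk, rfl⟩ := a.surj g g1
    refine ⟨k * u * k⁻¹, mul_mem (mul_mem_sup hk (mem_zpowers u)) (mem_sup_left (inv_mem hk)),
      by rw [a.π_cj (a.KM hk) uM, e, g2], _, conj_mem_of_mem_normalizer (s.KW hk)
        (inv_mem (s.cmQ h1 (inv_mem hk))), ?_⟩
    rw [← conj_cm, show ⁅u, ⁅y, k⁻¹⁆⁻¹⁆ = u * (k⁻¹ * y * k) * (u * y)⁻¹ * y * (k⁻¹ * y * k)⁻¹ by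
      simp only [commutatorElement_def]; group, s'.QW h2 u hu, commutatorElement_def]
    group
  choose t t1 t2 w w1 w2 using key
  obtain ⟨v, v1, v2⟩ := d12 fun i => ψ (w i) i.castSucc + ψ (w i) i.succ
  obtain ⟨v, hv, rfl⟩ := a.ψ_surj v v1
  have t3 : ∀ i, t i ∈ 𝐂[y⁻¹ * v] := fun i => by
    have := (w2 i).trans (s.ψ_inj a hD (cm_right (a.nrm (cm (t1 i))) (w1 i))
      (cm_right (a.nrm (cm (t1 i))) hv) (by
        rw [a.ψ_cm (cm (t1 i)) (w1 i), a.ψ_cm (cm (t1 i)) hv, t2, (d14 i).2 _ _ (v2 i)]))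
    rw [mem_centralizer_singleton_iff, ← conj_fix, show t i * (y⁻¹ * v) * (t i)⁻¹ =
      y⁻¹ * ⁅t i, y⁆⁻¹ * ⁅t i, v⁆ * v by simp only [commutatorElement_def]; group, this,
      inv_mul_cancel_right]
  let S : Submonoid S5 := ⟨⟨{σ | ∃ g ∈ 𝐂[y⁻¹ * v] ⊓ (K ⊔ zpowers u), π g = σ}, by
    rintro _ _ ⟨g, hg, rfl⟩ ⟨g', hg', rfl⟩
    exact ⟨_, mul_mem hg hg', a.π_mul (cm hg.2) (cm hg'.2)⟩⟩, 1, one_mem _, a.π_one⟩
  have hS : ⊤ ≤ S := by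
    rw [← mclosure_swap_castSucc_succ 4, Submonoid.closure_le]
    rintro _ ⟨i, rfl⟩
    exact ⟨t i, ⟨t3 i, t1 i⟩, t2 i⟩
  have m := mul_mem (inv_mem h1) (s.WQ hv)
  rw [inv_mul_eq_one.1 (hD _ (s.QT m) fun k hk => ?_)]
  · exact hv
  obtain ⟨g, ⟨g1, g2⟩, g3⟩ := hS (Submonoid.mem_top (π k))
  have gK : g ∈ K := ((mem_sup_zpowers (s'.sq u hu) uM).1 g2).resolve_right fun c => by
    have := a.even _ c
    rw [a.π_mul (cm g2) uM, g3, e, map_mul, a.even k hk] at this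
    exact absurd this (by decide)
  have := a.π_ker _ (mul_mem (inv_mem gK) hk) (by
    rw [a.π_mul (inv_mem (a.KM gK)) (a.KM hk), a.π_inv (a.KM gK), g3, inv_mul_cancel])
  exact mem_centralizer_singleton_iff.1 (((𝐂[y⁻¹ * v]).mul_mem_cancel_left (inv_mem g1)).1
    (mem_centralizer_singleton_iff.2 (s.QW m _ this)))

theorem card_Z : Nat.card (W ⊓ W' : Subgroup G) ≤ 4 := by
  obtain ⟨u, hu, e⟩ := id ex
  obtain ⟨v, hv, e'⟩ := s.ex2 a fx s' n ex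
  rw [← d13, ← Set.ncard_coe_finset]
  exact Set.ncard_le_ncard_of_injOn ψ (fun x hx => by
    simpa using ⟨a.ψ_ev x hx.1, e ▸ a.fix (s.nK (s'.WT hu)) hx.1 (comm2 s'.sq hu hx.2),
      e' ▸ a.fix (s.nK (s'.WT hv)) hx.1 (comm2 s'.sq hv hx.2)⟩)
    fun x hx y hy => s.ψ_inj a hD hx.1 hy.1

theorem exZ (hQ : Q ≤ W) (hE : E ≤ T) (hn : T ≤ 𝐍(E)) (h2 : ∀ e ∈ E, e * e = 1) (h : ¬ E ≤ W) :
    ∃ e ∈ E ⊓ W', ∀ w ∈ W, e * w = w * e → w ∈ W' := by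
  obtain ⟨u, hu, e⟩ := id ex
  obtain ⟨v, hv, e'⟩ := s.ex2 a fx s' n ex
  have uM := s.nK (s'.WT hu)
  have m := mul_mem hu hv
  have mM := s.nK (s'.WT m)
  have e1 : π (u * v) = swap 0 1 * swap 2 3 := by rw [a.π_mul uM (s.nK (s'.WT hv)), e, e']
  have k : ∀ w ∈ W, act (swap 0 1 * swap 2 3) (ψ w) = ψ w → w ∈ W' := fun w hw c => by
    obtain ⟨x, x1, x2⟩ := d9 _ (a.ψ_ev w hw) c
    obtain ⟨x, hx, rfl⟩ := a.ψ_surj x x1
    have m1 := s'.cmW s (s.n_symm s' n) m hx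
    exact s.ψ_inj a hD m1.2 hw (by rw [a.ψ_cm mM hx, e1, x2]) ▸ m1.1
  obtain ⟨x, hx, e2⟩ : ∃ x ∈ E, π x = swap 0 1 * swap 2 3 := by
    obtain ⟨x, hx, x1, x2⟩ := s.ev_inv a fx hE hn h2 fun c => h (c.trans hQ)
    have xM := s.nK (hE hx)
    rcases d11 _ (fx x (hE hx)) (a.π_sq xM (h2 x hx)) x1 x2 with c | c
    · exact ⟨x, hx, c⟩
    · exact ⟨_, mul_mem hx (conj_mem_of_mem_normalizer (hn (s'.WT hu)) hx), by
        rw [a.π_mul xM (mul_mem (mul_mem uM xM) (inv_mem uM)), a.π_cj uM xM, e, c]⟩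
  have xM := s.nK (hE hx)
  have m1 := hQ (s.π_ker a (mul_mem (s'.WT m) (hE hx)) (by rw [a.π_mul mM xM, e1, e2]; decide))
  refine ⟨x, ⟨hx, (W'.mul_mem_cancel_left m).1 (k _ m1 (e2 ▸ a.fix xM m1 ?_))⟩,
    fun w hw c => k w hw (e2 ▸ a.fix xM hw c)⟩
  have := s.sq _ m1
  rw [mul_assoc, mul_eq_one_iff_inv_eq, inv_of_sq (s'.sq _ m)] at this
  rw [mul_assoc (u * v), h2 x hx, mul_one, ← this]

end St

theorem St.a5 (s : St K T W Q) (a : A5 K K W π ψ) (hγ : γ ∈ 𝐍(T)) (n : ¬ W ^ᶜ γ ≤ Q) :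
    SectionalPRankLE 2 4 G := by
  have s' := s.cj hγ
  have n' := s.n_symm s' n
  obtain ⟨π, a⟩ := a.ext
  have a' := a.cj γ
  rw [cj_normalizer] at a'
  obtain ⟨π, ψ, a, fx⟩ := a.exists_fix s.pT s.nK
  obtain ⟨π', ψ', a', fx'⟩ := a'.exists_fix s.pT s'.nK
  obtain ⟨π, ψ, a, fx, ex⟩ := s.exists_swap a fx s' n a' fx'
  obtain ⟨π', ψ', a', fx', ex'⟩ := s'.exists_swap a' fx' s n' a fx
  have hD' := fun d => s.D5 a fx s' n ex (d := d)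
  have hD := fun d => s'.D5 a' fx' s n' ex' (d := d)
  have hQ : Q ≤ W := fun x hx => by
    obtain ⟨u, hu, e⟩ := s'.Q'_le5 a' fx' s n' ex' hx
    exact (W.mul_mem_cancel_left hu).1 (s.le_W5 a fx s' n ex hD (mul_mem (s.WQ hu) hx) e)
  have hQ' : Q ^ᶜ γ ≤ W ^ᶜ γ := cj_mono γ hQ
  have lo : ∀ E ≤ T, T ≤ 𝐍(E) → (∀ e ∈ E, e * e = 1) → E ≤ W ∨ E ≤ W ^ᶜ γ := fun E h1 h2 h3 => by
    by_contra! c
    obtain ⟨e, he, h⟩ := s.exZ a fx s' n ex hD hQ h1 h2 h3 c.1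
    obtain ⟨e', he', h'⟩ := s'.exZ a' fx' s n' ex' hD' hQ' h1 h2 h3 c.2
    exact n' fun w hw => s'.WQ (h w hw (comm2 s.sq (h' e he.2 (comm2 h3 he'.1 he.1)) hw))
  have two : ∀ g ∈ 𝐍(T), W ^ᶜ g = W ∨ W ^ᶜ g = W ^ᶜ γ := fun g hg =>
    (lo _ (s.cj hg).WT (s.cj hg).TW (s.cj hg).sq).imp
      (fun e => eq_of_le_of_card_ge e (card_cj W g).ge)
      fun e => eq_of_le_of_card_ge e ((card_cj W γ).trans (card_cj W g).symm).le
  have γW : γ ∉ 𝐍(W) := fun e => n (cj_le_of_mem_normalizer s.WQ (by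
    rw [← le_antisymm s.WQ hQ]; exact e))
  have sw : ∀ g ∈ 𝐍(T), g ∉ 𝐍(W) → W ^ᶜ g = W ^ᶜ γ ∧ (W ^ᶜ γ) ^ᶜ g = W := fun g hg h => by
    have e := (two g hg).resolve_left (mt cj_eq_self_iff.1 h)
    refine ⟨e, ?_⟩
    rw [cj_cj]
    refine (two _ (mul_mem hg hγ)).resolve_right fun c => γW ?_
    rwa [← e, ← cj_cj, cj_inj, cj_eq_self_iff] at c
  obtain ⟨g, hg, g2, gW⟩ : ∃ g ∈ 𝐍(T), El2 g ∧ g ∉ 𝐍(W) := by
    obtain ⟨g1, m1, g2, m2, ⟨m, o1⟩, o2, e⟩ := exists_parts γ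
    replace m1 := zpowers_le.2 hγ m1
    refine ⟨g2, zpowers_le.2 hγ m2, o2, fun c => γW (e ▸ mul_mem (by_contra fun c' => c' ?_) c)⟩
    have := pow_mem (show g1 * g1 ∈ 𝐍(W) by
      rw [← cj_eq_self_iff, ← cj_cj, (sw g1 m1 c').1, (sw g1 m1 c').2]) (m + 1)
    rwa [← pow_two, ← pow_mul, show 2 * (m + 1) = orderOf g1 + 1 by omega, pow_succ,
      pow_orderOf_eq_one, one_mul] at this
  obtain ⟨S, hS, hl⟩ := exists_isSylowIn_le (isPGroup_sup_of_le_normalizer_left s.pT g2.isPGroup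
    (zpowers_le.2 hg)) le_top
  have TS := le_sup_left.trans hl
  refine sr_of_sr hS (H83.Mac.macWilliams hS.isP fun E0 h0 _ h2 => ?_)
  have nE := normal_iff_le_normalizer_map.1 h0
  rw [← card_map_subtype]
  refine le_trans (card_le_of_le ?_) (s.card_Z a fx s' n ex hD)
  replace h2 : ∀ e ∈ E0.map S.subtype, e * e = 1 := by
    rintro _ ⟨w, hw, rfl⟩
    exact congrArg Subtype.val ((pow_two w).symm.trans (h2 w hw))
  have ES := map_subtype_le E0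
  generalize E0.map S.subtype = E at nE h2 ES
  have h1 : E ⊓ T ≤ W ⊓ W ^ᶜ γ := by
    have e := cj_eq_of_mem_normalizer (H69.le_normalizer_inf (zpowers_le.2 (nE (hl
      (mem_sup_right (mem_zpowers g))))) (zpowers_le.2 hg) (mem_zpowers g))
    rcases lo _ inf_le_right (H69.le_normalizer_inf (TS.trans nE) le_normalizer)
      (fun x hx => h2 x hx.1) with c | c
    · exact le_inf c (e ▸ (sw g hg gW).1 ▸ cj_mono g (e.symm ▸ c))
    · exact le_inf (e ▸ (sw g hg gW).2 ▸ cj_mono g (e.symm ▸ c)) c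
  refine le_trans (le_inf le_rfl (by_contra fun c => ?_)) h1
  obtain ⟨y, hy, yT, yN⟩ := H70.exists_mem_normalizer_of_lt (hS.isP.to_le (sup_le TS ES))
    (left_lt_sup.2 c)
  obtain ⟨t, ht, e, he, rfl⟩ := (mem_sup_of_le_normalizer_right (TS.trans nE)).1 hy
  have eN := ((𝐍(T)).mul_mem_cancel_left (le_normalizer ht)).1 yN
  have cm : ∀ x ∈ T, ⁅e, x⁆ ∈ W := fun x hx => (h1 ⟨cm_left he (nE (TS hx)), cm_right eN hx⟩).1
  have eW : e ∈ 𝐍(W) := le_normalizer_of_commutator_le_right (commutator_le.2 fun y hy w hw => by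
    rcases (mem_zpowers_of_mul_self (h2 e he)).1 hy with rfl | rfl
    exacts [by simp, cm w (s.WT hw)]) (mem_zpowers e)
  have eM := s.uniq W (s.pT.to_le s.WT) s.W1 s.KW s.TW eW
  obtain ⟨u, hu, e1⟩ := s.cen5 a fx s' n ex (m := e) fun u hu => by
    have uM := s.nK (s'.WT hu)
    have := s.π_Q a (s.WQ (cm u (s'.WT hu)))
    rwa [commutatorElement_def, a.π_mul (mul_mem (mul_mem eM uM) (inv_mem eM)) (inv_mem uM),
      a.π_cj eM uM, a.π_inv uM, mul_inv_eq_one, mul_inv_eq_iff_eq_mul] at this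
  have uM := s.nK (s'.WT hu)
  have m := mul_mem (inv_mem uM) eM
  exact yT (mul_mem ht ((T.mul_mem_cancel_left (inv_mem (s'.WT hu))).1 (s.QT (s.cQ
    (centralizer_anti hQ fun w hw => (conj_fix.1 (s.ψ_inj a hD (a.cjW m hw) hw (by
      rw [a.equiv _ m w hw, a.π_mul (inv_mem uM) eM, a.π_inv uM, e1, inv_mul_cancel]; rfl))).symm)))))

end H23.PU
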