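import Mathlib
import Cfsg.Agent.Base
import Cfsg.Agent.Lib.TI2.PuF
import Cfsg.Agent.Lib.Push.OddAut
import Cfsg.Agent.Lib.SL2Elt.Order
import Cfsg.Agent.Lib.Core.CoprimeAbelian
import Cfsg.Agent.S2982

/-!
# Pushing up in groups of characteristic 2 type, VII: reduction to a block
-/

set_option autoImplicit false
set_option linter.unusedSectionVars false

namespace H23.PU

open Subgroup Cfsg H69 H45 H55.Two Gold H23.L3 Matrix Equiv Equiv.Perm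
open H24 (upT loT IsCharIn)
open scoped commutatorElement MatrixGroups

/-- common properties of `Z₃` and `SL₂(2ⁿ)`, `n ≥ 2` -/
structure Xs (X : Type*) [Group X] : Prop where
  simple : IsSimpleGroup X
  bor : ∀ P : Subgroup X, IsSylowIn 2 P ⊤ → ∃ B ≠ ⊤, ∀ Y, P ≤ Y → Y ≠ ⊤ → Y ≤ B
  sq : ∀ x : X, El2 x → x * x = 1
  card : Nat.card X = 3 ∨ 60 ≤ Nat.card X

theorem xs_three : Xs (Multiplicative (ZMod 3)) := by
  haveI : Fact (Nat.Prime 3) := ⟨Nat.prime_three⟩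
  have h : Nat.card (Multiplicative (ZMod 3)) = 3 := by simp
  haveI : Fact (Nat.card (Multiplicative (ZMod 3))).Prime := ⟨by rw [h]; exact Nat.prime_three⟩
  exact ⟨isSimpleGroup_of_prime_card h, fun _ _ => ⟨⊥, bot_ne_top, fun Y _ e =>
    ((eq_bot_or_eq_top_of_prime_card Y).resolve_right e).le⟩, fun x hx => by
      rw [hx.eq_one (Odd.of_dvd_nat (by decide) (h ▸ orderOf_dvd_natCard x)), one_mul], Or.inl h⟩

theorem sixty {F : Type*} [Field F] [Finite F] (h : 4 ≤ Nat.card F) : 60 ≤ Nat.card SL(2, F) := by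
  rw [H10.card_SL_two]
  exact Nat.mul_le_mul (Nat.mul_le_mul h (show 3 ≤ _ by omega)) (show 5 ≤ _ by omega)

theorem xs_sl {F : Type*} [Field F] [Finite F] [CharP F 2] (h : 4 ≤ Nat.card F) : Xs SL(2, F) := by
  have U := isSylowIn_top (H10.unitriSylowSL (Fin 2) F 2)
  rw [H10.coe_unitriSylowSL] at U
  haveI := ProjectiveSpecialLinearGroup.rank_two_simple h
  refine ⟨(H64.SL2.projEquiv CharTwo.two_eq_zero).isSimpleGroup, fun P hP => ?_, fun x hx => ?_,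
    Or.inr (sixty h)⟩
  · obtain ⟨g, -, rfl⟩ := U.conj hP
    refine ⟨H10.borelSL (Fin 2) F ^ᶜ g, mt cj_eq_top_iff.1 fun e =>
      one_ne_zero (H10.mem_borelSL_two.1 (e.ge (mem_top (loT (1 : F))))), fun Y h1 h2 => ?_⟩
    rw [cj_le_iff] at h1
    rw [le_cj_iff]
    replace h2 := mt (cj_eq_top_iff (g := g⁻¹)).1 h2
    generalize Y ^ᶜ g⁻¹ = Y at h1 h2
    have up : ∀ c, upT c ∈ Y := fun c => h1 (H68S.mem_unitri.2 ⟨c, rfl⟩)
    refine fun m hm => H10.mem_borelSL_two.2 (by_contra fun c => h2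
      (H24.eq_top_of_upT_loT up fun s => ?_))
    change ¬ m 1 0 = 0 at c
    have m1 := mul_mem (up (-m 0 0 / m 1 0)) hm
    have e0 : (upT (-m 0 0 / m 1 0) * m) 0 0 = 0 := by simp [sl_mul]; field_simp; ring
    have e1 : (upT (-m 0 0 / m 1 0) * m) 1 0 = m 1 0 := by simp [sl_mul]
    generalize upT (-m 0 0 / m 1 0) * m = n at m1 e0 e1
    convert mul_mem (mul_mem m1 (up (-s / m 1 0 ^ 2))) (inv_mem m1) using 1
    have d := sl_det n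
    rw [eq_mul_inv_iff_mul_eq]
    rw [e0, e1] at d
    ext i j
    fin_cases i <;> fin_cases j <;> simp [sl_mul, e0, e1]
    field_simp
    linear_combination (-s) * d
  · obtain ⟨g, -, e⟩ := U.exists_cj_le hx.isPGroup le_top
    obtain ⟨c, e⟩ := H68S.mem_unitri.1 (e (cj_mem g (mem_zpowers x)))
    rw [← conj_eq_one_iff (a := g), ← conj_mul, e, ← H24.upT_add, CharTwo.add_self_eq_zero,
      H24.upT_zero]

variable {G : Type*} [Group G] [Finite G] {H K T W Q : Subgroup G}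

/-- `K / W` is `Z₃` or `SL₂(2ⁿ)`, `n ≥ 2` -/
structure Ks (K W : Subgroup G) : Prop where
  simple : ∀ N ≤ K, K ≤ 𝐍(N) → N ≤ W ∨ K ≤ N ⊔ W
  bor : ∀ P, IsSylowIn 2 P K → W ≤ P → ∃ B < K, ∀ Y, P ≤ Y → Y < K → Y ≤ B
  sq : ∀ x ∈ K, El2 x → x * x ∈ W
  card : W.relIndex K = 3 ∨ 60 ≤ W.relIndex K

theorem ks_of {X : Type*} [Group X] (x : Xs X) (φ : K →* X) (hφ : Function.Surjective φ)
    (hW : W ≤ K) (hk : φ.ker = W.subgroupOf K) : Ks K W := by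
  haveI := Finite.of_surjective φ hφ
  haveI := x.simple
  have top : ∀ Y ≤ K, (Y.subgroupOf K).map φ = ⊤ → K ≤ Y ⊔ W := fun Y hY e => by
    have := congrArg (comap φ) e
    rwa [comap_map_eq, comap_top, hk, ← subgroupOf_sup hY hW, subgroupOf_eq_top] at this
  refine ⟨fun N h1 h2 => ?_, fun P hP hl => ?_, fun y hy ⟨n, e⟩ => ?_, ?_⟩
  · haveI := (normal_subgroupOf_iff_le_normalizer h1).2 h2
    refine (Normal.eq_bot_or_eq_top (Normal.map inferInstance φ hφ (H := N.subgroupOf K))).imp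
      (fun e => ?_) (top N h1)
    rwa [Subgroup.map_eq_bot_iff, hk, subgroupOf_le_subgroupOf_iff h1] at e
  · obtain ⟨B, h1, h2⟩ := x.bor _ (by
      have := hP.subgroupOf_top.map φ
      rwa [map_top_of_surjective φ hφ] at this)
    refine ⟨(B.comap φ).map K.subtype, lt_of_le_of_ne (map_subtype_le _) fun e => h1 ?_,
      fun Y h3 h4 => (subgroupOf_le_iff h4.le).1 (map_le_iff_le_comap.1 (h2 _
        (map_mono (comap_mono h3)) fun e => h4.not_ge ?_))⟩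
    · rw [← map_comap_eq_self_of_surjective hφ B, map_subtype_eq_self_iff.1 e,
        map_top_of_surjective φ hφ]
    · exact (top Y h4.le e).trans (sup_le le_rfl (hl.trans h3))
  · have : (⟨y, hy⟩ * ⟨y, hy⟩ : K) ∈ φ.ker := by
      rw [MonoidHom.mem_ker, map_mul]
      exact x.sq _ ⟨n, by rw [← map_pow, show (⟨y, hy⟩ : K) ^ 2 ^ n = 1 from Subtype.ext e, map_one]⟩
    rwa [hk] at this
  · rw [relIndex, ← hk, index_ker, MonoidHom.range_eq_top.2 hφ, card_top]; exact x.card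

theorem Ks.not_le (ks : Ks K W) : ¬ K ≤ W := fun e => by
  have := ks.card
  rw [relIndex_eq_one.2 e] at this
  omega

theorem block (T : Sylow 2 G) (ks : Ks 𝐑(2, (⊤ : Subgroup G)) (pCoreOf 2 𝐑(2, (⊤ : Subgroup G))))
    (hG : 𝐂(pCore 2 G) ≤ pCore 2 G) (hT : ¬ (T : Subgroup G).Normal)
    (hc : ∀ C, IsCharIn C (T : Subgroup G) → C ≠ ⊥ → ¬ C.Normal) :
    IsBaumannBlock 2 (T : Subgroup G) 𝐑(2, (⊤ : Subgroup G)) := by
  set K := 𝐑(2, (⊤ : Subgroup G)) with hK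
  have nK : ⊤ ≤ 𝐍(K) := le_normalizer_res ⊤
  have key : ∀ S : Sylow 2 G, ∃ M ≠ ⊤, (S : Subgroup G) ≤ M ∧
      ∀ Y, (S : Subgroup G) ≤ Y → Y ≠ ⊤ → Y ≤ M := fun S => by
    have hS := isSylowIn_top S
    have hP := hS.inf_normal le_top nK
    obtain ⟨B, h1, h2⟩ := ks.bor _ hP hP.pCoreOf_le
    have PB := h2 _ le_rfl (lt_of_le_of_ne inf_le_right fun e => ks.not_le
      (H70.le_pCoreOf (e ▸ hP.isP) le_rfl le_normalizer))
    have nB : (S : Subgroup G) ≤ 𝐍(B) := fun s hs => mem_normalizer_of_cj_le (h2 _ (by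
      rw [← cj_eq_of_mem_normalizer (H69.le_normalizer_inf le_normalizer (le_top.trans nK) hs)]
      exact cj_mono s PB) (by
        rw [← cj_eq_of_mem_normalizer (nK (mem_top s))]; exact cj_lt_cj_iff.2 h1))
    refine ⟨B ⊔ S, fun e => h1.not_ge ?_, le_sup_right, fun Y h3 h4 => ?_⟩
    · have := dedekind_left nB h1.le
      rw [e, top_inf_eq] at this
      exact this.le.trans (sup_le le_rfl PB)
    · have := dedekind_right (le_top.trans nK) h3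
      rw [hS.sup_res, top_inf_eq] at this
      rw [this, sup_comm]
      exact sup_le_sup_right (h2 _ (le_inf inf_le_right (inf_le_left.trans h3))
        (lt_of_le_of_ne inf_le_left fun e => h4 (top_le_iff.1 (hS.eq_of_res_le h3
          (inf_eq_left.1 e))))) _
  have T1 : (T : Subgroup G) ≠ ⊥ := fun e => hT (e ▸ inferInstance)
  have hz : omegaOneCenter 2 (T : Subgroup G) ≠ ⊥ := fun e => by
    obtain ⟨x, hx, x2, x1⟩ := exists_inv (T.isPGroup'.to_le inf_le_left)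
      (center_ne_bot T.isPGroup' T1)
    exact x1 (mem_bot.1 (e.le (H68B.le_oc (ea_zpowers x2) (zpowers_le.2 hx.1) (zpowers_le.2 hx.2)
      (mem_zpowers x))))
  have hch : ∀ C ≤ baumannSubgroupOf 2 (T : Subgroup G),
      (C.subgroupOf (baumannSubgroupOf 2 (T : Subgroup G))).Characteristic →
      IsCharIn C (T : Subgroup G) := fun C h1 h2 =>
    H1.OA.isCharIn_trans ⟨h1, h2⟩ (H1.OA.isCharIn_bau 2 _)
  obtain ⟨𝓑, ⟨b1, b2, b3, b4, -⟩, -⟩ := Cfsg.Agent.S2982.result (p := 2) (fun S => ⟨fun e => hT (by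
      obtain ⟨g, -, e'⟩ := (isSylowIn_top S).conj (isSylowIn_top T)
      rwa [← e', cj_eq_of_normal]), by
    obtain ⟨M, h1, h2, h3⟩ := key S
    exact ⟨M, ⟨⟨h1, fun Y hY => by_contra fun c => hY.not_ge (h3 Y (h2.trans hY.le) c)⟩, h2⟩,
      fun N hN => ((hN.1.le_iff.1 (h3 N hN.2 hN.1.1)).resolve_left h1).symm⟩⟩) hG T
    (fun C h1 h2 h3 => hc C (hch C h1 h3) h2) (hc _ (H1.OA.isCharIn_oc 2 _) hz)
  obtain ⟨E, hE⟩ : 𝓑.Nonempty := by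
    obtain ⟨M, h1, -, h3⟩ := key T
    have k : ∀ C, IsCharIn C (T : Subgroup G) → C ≠ ⊥ → 𝐍(C) ≤ M := fun C c1 c2 =>
      h3 _ (le_normalizer.trans c1.normalizer_le) fun e =>
        hc C c1 c2 (normal_iff_top_le_normalizer.2 e.ge)
    rw [Set.nonempty_iff_ne_empty]
    rintro rfl
    rw [sSup_empty, sup_bot_eq] at b4
    exact h1 (top_le_iff.1 (b4.ge.trans (sup_le ((centralizer_le_normalizer _).trans
      (k _ (H1.OA.isCharIn_oc 2 _) hz)) (iSup_le fun C => k _ (hch C C.2.1 C.2.2.2) C.2.2.1))))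
  have le : ∀ E ∈ 𝓑, E ≤ K := fun E hE => (b1 E hE).1.ge.trans (res_mono le_top)
  have pW := H70.isPGroup_pCoreOf 2 K
  have EW : ¬ E ≤ pCoreOf 2 K := fun e => (b1 E hE).2.2.2.1 (by
    rw [← (b1 E hE).1, show pResidualOf 2 E = ⊥ from res_eq_bot_of_isPGroup (pW.to_le e),
      commutator_bot_left])
  have fin : ∀ N ≤ K, K ≤ 𝐍(N) → E ≤ N → K ≤ N := fun N h1 h2 h3 =>
    (res_res (p := 2) ⊤).ge.trans ((res_mono ((ks.simple N h1 h2).resolve_left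
      fun e => EW (h3.trans e))).trans (res_sup_le pW ((H70.pCoreOf_le 2 K).trans h2)))
  have h1 := fin (sSup 𝓑) (sSup_le le) (le_normalizer_of_cj_le fun g _ => by
    rw [cj_le_iff, sSup_le_iff]
    exact fun F hF => cj_le_iff.1 (le_sSup (b2 F hF g))) (le_sSup hE)
  rw [le_antisymm (fin E (le E hE) (h1.trans (sSup_le fun F hF => ?_)) le_rfl) (le E hE)]
  · exact b1 E hE
  · by_cases e : F = E
    · exact e ▸ le_normalizer
    · exact le_normalizer_of_le_centralizer (le_centralizer_of_commutator_eq_bot (b3 F hF E hE e))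

theorem ker_eq {E Y : Type*} [Group E] [Finite E] [Group Y] (ρ : E →* Y)
    (e : E ⧸ pCore 2 E ≃* ρ.range) : ρ.ker = pCore 2 E := by
  have h : Nat.card ρ.ker = Nat.card (pCore 2 E) := by
    have h1 := H68.Push.card_eq_of_hom ρ
    rw [card_eq_card_quotient_mul_card_subgroup (pCore 2 E), Nat.card_congr e.toEquiv] at h1
    haveI : Finite ρ.range := Finite.of_surjective _ ρ.rangeRestrict_surjective
    exact (Nat.eq_of_mul_eq_mul_left Nat.card_pos h1).symm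
  obtain ⟨n, hn⟩ := (H70.isPGroup_pCore 2 E).exists_card_eq
  exact eq_of_le_of_card_ge (H70.le_pCore inferInstance (IsPGroup.of_card (h.trans hn))) h.ge

theorem raw (hK : K ≤ H) (hW : W = pCoreOf 2 K) {Y M : Type*} [Group Y] [AddCommGroup M]
    (ac : Y → M → M) {R : Subgroup Y} (e : K.subgroupOf H ⧸ pCore 2 (K.subgroupOf H) ≃* R)
    (ρ : K.subgroupOf H →* Y) (ψ : W.subgroupOf H →* Multiplicative M) (hρ : ρ.range = R)
    (hk : ∀ u, ψ u = 1 ↔ (u : H) ∈ W.subgroupOf H ⊓ 𝐂(K.subgroupOf H))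
    (he : ∀ (e : K.subgroupOf H) (u : W.subgroupOf H), ∃ w : W.subgroupOf H,
      (w : H) = e * u * (e : H)⁻¹ ∧ (ψ w).toAdd = ac (ρ e) (ψ u).toAdd) :
    ∃ (ρ' : G → Y) (ψ' : G → M), W.relIndex K = Nat.card R ∧ (∀ y, y ∈ R ↔ ∃ x ∈ K, ρ' x = y) ∧
      (∀ x ∈ K, ρ' x = 1 ↔ x ∈ W) ∧ (∀ m, (∃ u, (ψ u).toAdd = m) ↔ ∃ w ∈ W, ψ' w = m) ∧
      (∀ x ∈ K, ∀ y ∈ K, ρ' (x * y) = ρ' x * ρ' y) ∧ (∀ x ∈ W, ∀ y ∈ W, ψ' (x * y) = ψ' x + ψ' y) ∧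
      (∀ v ∈ W, ψ' v = 0 ↔ v ∈ 𝐂(K)) ∧ ∀ x ∈ K, ∀ v ∈ W, ψ' (x * v * x⁻¹) = ac (ρ' x) (ψ' v) := by
  classical
  have e0 : pCore 2 (K.subgroupOf H) = (W.subgroupOf H).subgroupOf (K.subgroupOf H) := by
    rw [hW, ← H70.pCoreOf_subgroupOf_of_le 2 hK, H70.pCoreOf_subgroupOf]
  replace hW : W ≤ K := hW ▸ H70.pCoreOf_le 2 K
  subst hρ
  obtain ⟨ρ', h1⟩ : ∃ ρ' : G → Y, ∀ e : K.subgroupOf H, ρ' e = ρ e :=
    ⟨fun x => if h : x ∈ K then ρ ⟨⟨x, hK h⟩, h⟩ else 1, fun e => dif_pos e.2⟩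
  obtain ⟨ψ', h2⟩ : ∃ ψ' : G → M, ∀ e : W.subgroupOf H, ψ' e = (ψ e).toAdd :=
    ⟨fun x => if h : x ∈ W then (ψ ⟨⟨x, hK (hW h)⟩, h⟩).toAdd else 0, fun e => dif_pos e.2⟩
  refine ⟨ρ', ψ', ?_, fun y => ⟨fun ⟨x, hx⟩ => ⟨_, x.2, (h1 x).trans hx⟩, fun ⟨x, hx, e⟩ =>
    ⟨⟨⟨x, hK hx⟩, hx⟩, (h1 _).symm.trans e⟩⟩, fun x hx => ?_, fun m => ⟨fun ⟨x, hx⟩ =>
    ⟨_, x.2, (h2 x).trans hx⟩, fun ⟨x, hx, e⟩ => ⟨⟨⟨x, hK (hW hx)⟩, hx⟩, (h2 _).symm.trans e⟩⟩,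
    fun x hx y hy => ?_, fun x hx y hy => ?_, fun v hv => ?_, fun x hx v hv => ?_⟩
  · rw [← relIndex_subgroupOf hK, relIndex, ← e0, index_eq_card, Nat.card_congr e.toEquiv]
  · rw [h1 ⟨⟨x, hK hx⟩, hx⟩, ← MonoidHom.mem_ker, ker_eq ρ e, e0]; rfl
  · rw [h1 ⟨⟨x, hK hx⟩, hx⟩, h1 ⟨⟨y, hK hy⟩, hy⟩, ← map_mul, ← h1]; rfl
  · rw [h2 ⟨⟨x, hK (hW hx)⟩, hx⟩, h2 ⟨⟨y, hK (hW hy)⟩, hy⟩, ← toAdd_mul, ← map_mul, ← h2]; rfl
  · rw [h2 ⟨⟨v, hK (hW hv)⟩, hv⟩, toAdd_eq_zero, hk]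
    exact ⟨fun h x hx => congrArg Subtype.val (h.2 ⟨x, hK hx⟩ hx),
      fun h => ⟨hv, fun x hx => Subtype.ext (h x hx)⟩⟩
  · obtain ⟨w, e1, e2⟩ := he ⟨⟨x, hK hx⟩, hx⟩ ⟨⟨v, hK (hW hv)⟩, hv⟩
    rw [h1 ⟨⟨x, hK hx⟩, hx⟩, h2 ⟨⟨v, hK (hW hv)⟩, hv⟩, ← e2, ← h2 w, e1]; rfl

theorem mk_a3 (hR : 𝐑(2, K) = K) (hW : W ≤ K) (hn : K ≤ 𝐍(W)) (h2 : ∀ w ∈ W, w * w = 1)
    (h3 : W.relIndex K = 3) (hc : ⁅W, K⁆ = W)
    (h4 : (∀ w ∈ W, w ∈ 𝐂(K) → w = 1) → Nat.card W ≤ 4) : A3 K W := by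
  obtain ⟨x, hx, xo, xW⟩ : ∃ x ∈ K, (orderOf x).Coprime 2 ∧ x ∉ W := by
    by_contra! c
    rw [relIndex_eq_one.2 (hR.ge.trans (res_le_iff.2 c))] at h3
    omega
  have l : W ⊔ zpowers x ≤ K := sup_le hW (zpowers_le.2 hx)
  have e : K ≤ W ⊔ zpowers x := by
    have := relIndex_mul_relIndex W _ K le_sup_left l
    rw [h3] at this
    rcases (Nat.dvd_prime Nat.prime_three).1 ⟨_, this.symm⟩ with c | c
    · exact (xW (relIndex_eq_one.1 c (mem_sup_right (mem_zpowers x)))).elim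
    · rw [c] at this
      exact relIndex_eq_one.1 (by omega)
  have nx : zpowers x ≤ 𝐍(W) := zpowers_le.2 (hn hx)
  have k : ∀ w ∈ W, w * x = x * w → w = 1 := fun w hw c => by
    have h1 : W ≤ ⁅W, zpowers x⁆ := hc.ge.trans ((commutator_mono le_rfl e).trans
      (commutator_sup_le_right (le_normalizer_of_le_centralizer (le_centralizer_iff.1
        ((commutator_le_left_of_le_normalizer nx).trans (ea_cent (ea_of_sq h2)))))
        (H69.le_normalizer_commutator nx le_normalizer)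
        ((commutator_eq_bot_of_le_centralizer (ea_cent (ea_of_sq h2))).le.trans bot_le) le_rfl))
    exact mem_bot.1 ((H2.commutator_inf_centralizer_eq_bot (ea_of_sq h2).1 nx
      ((oddS_zpowers (Nat.coprime_two_right.1 xo)).coprime (ea2 (ea_of_sq h2))).symm).le
        ⟨h1 hw, H69.centralizer_zpowers x ▸ mem_centralizer_singleton_iff.2 c⟩)
  exact ⟨h4 fun w hw c => k w hw (c x hx).symm, x, hx, e, k⟩

/-- irreducibility of `W / C_W(K)` -/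
def Irr (K W : Subgroup G) : Prop :=
  ∀ U ≤ W, K ≤ 𝐍(U) → W ⊓ 𝐂(K) ≤ U → ¬ U ≤ 𝐂(K) → W ≤ U

theorem A3.irr (a : A3 K W) : Irr K W := fun U h1 h2 _ h4 => by
  obtain ⟨w, hw, h⟩ := SetLike.not_le_iff_exists.1 h4
  obtain ⟨x, h5, -, h6⟩ := a.ex
  have w1 : w ≠ 1 := fun e => h (e ▸ one_mem _)
  exact four_eq a.c4 h1 hw (conj_mem_of_mem_normalizer (h2 h5) hw) w1 (mt conj_eq_one_iff.1 w1)
    fun c => w1 (h6 w (h1 hw) (conj_fix.1 c.symm).symm)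

theorem NK.irr {F : Type*} [Field F] {ρ : G → SL(2, F)} {ψ : G → Fin 2 → F} (k : NK F K W T ρ ψ) :
    Irr K W := fun U h1 h2 h3 h4 a ha => by
  obtain ⟨w, hw, h⟩ := SetLike.not_le_iff_exists.1 h4
  by_cases c : a ∈ 𝐂(K)
  · exact h3 ⟨ha, c⟩
  obtain ⟨l, hl, e⟩ := k.tr (h1 hw) ha h c
  have m := conj_mem_of_mem_normalizer (h2 hl) hw
  exact (U.mul_mem_cancel_left m).1 (h3 ⟨mul_mem (h1 m) ha, (k.ψ_eq (h1 m) ha).1 e⟩)

set_option maxRecDepth 100000 in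
set_option synthInstance.maxSize 2000 in
theorem d15 : (∀ v, ev v → v ≠ 0 → (∃ i, v = zz i) ∨ ∃ σ : S5, sign σ = 1 ∧ ∃ i,
    act σ v + v = zz i) ∧ ∀ i j, ∃ σ : S5, sign σ = 1 ∧ σ i = j := by decide +kernel

theorem A5.irr {π : G → S5} {ψ : G → V5} (a : A5 K K W π ψ) : Irr K W := fun U h1 h2 h3 h4 => by
  obtain ⟨w, hw, h⟩ := SetLike.not_le_iff_exists.1 h4
  have k : ∀ u ∈ U, ∀ σ, sign σ = 1 → ∃ u' ∈ U, ψ u' = act σ (ψ u) := fun u hu σ e => by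
    obtain ⟨x, hx, rfl⟩ := a.surj σ e
    exact ⟨_, conj_mem_of_mem_normalizer (h2 hx) hu, a.equiv x hx u (h1 hu)⟩
  obtain ⟨i, u, hu, e⟩ : ∃ i, ∃ u ∈ U, ψ u = zz i := by
    rcases d15.1 _ (a.ψ_ev w (h1 hw)) (mt (a.ψ_ker w (h1 hw)).1 h) with ⟨i, e⟩ | ⟨σ, e, i, e'⟩
    · exact ⟨i, w, hw, e⟩
    · obtain ⟨u, hu, e1⟩ := k w hw σ e
      exact ⟨i, _, mul_mem hu hw, by rw [a.ψ_mul u (h1 hu) w (h1 hw), e1, e']⟩
  have k1 : ∀ j, ∃ u ∈ U, ψ u = zz j := fun j => by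
    obtain ⟨σ, e1, rfl⟩ := d15.2 i j
    simpa only [e, act_zz] using k u hu σ e1
  intro x hx
  obtain ⟨y, hy, e⟩ : ∃ y ∈ U, ψ y = ψ x := by
    rcases d3 _ (a.ψ_ev x hx) with ⟨j, e⟩ | ⟨j, l, e⟩ <;> rw [e]
    · exact k1 j
    · obtain ⟨y, hy, e1⟩ := k1 j
      obtain ⟨y', hy', e2⟩ := k1 l
      exact ⟨_, mul_mem hy hy', by rw [a.ψ_mul y (h1 hy) y' (h1 hy'), e1, e2]⟩
  exact (U.mul_mem_cancel_left hy).1 (h3 ⟨mul_mem (h1 hy) hx, (a.ψ_eq (h1 hy) hx).1 e⟩)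

theorem le_cent_of_irr (i : Irr K W) (hc : ⁅W, K⁆ = W) (h1 : W ≠ ⊥) (hQ : IsPGroup 2 Q)
    (hW : W ≤ Q) (h2 : W ≤ 𝐂(W)) (n0 : Q ≤ 𝐍(K)) (n1 : K ≤ 𝐍(W)) (n2 : K ≤ 𝐍(Q)) (n3 : Q ≤ 𝐍(W))
    (h3 : ⁅Q, K⁆ ≤ W) : Q ≤ 𝐂(W) := by
  obtain ⟨w, hw, h4, h5⟩ := H57.exists_fixed_mod_of_isPGroup (N := 𝐂(K)) hQ hW le_rfl n3
    fun e => h1 (hc.symm.trans (commutator_eq_bot_of_le_centralizer e))
  have nC : Q ≤ 𝐍((W ⊓ 𝐂(K) : Subgroup G)) :=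
    H69.le_normalizer_inf n3 (H69.le_normalizer_centralizer n0)
  have := i (W ⊓ H68.Push.cm (W ⊓ 𝐂(K)) Q) inf_le_left (H69.le_normalizer_inf n1
    (H68.Push.le_normalizer_cm (le_normalizer_of_le_centralizer (le_centralizer_iff.1 inf_le_right))
      n2)) (fun x hx => ⟨hx.1, H68.Push.mem_cm.2 ⟨le_normalizer hx, fun q hq => cm_right (nC hq) hx⟩⟩)
    fun e => h4 (e ⟨hw, H68.Push.mem_cm.2 ⟨nC (hW hw), fun q hq => by
      rw [← commutatorElement_inv]; exact inv_mem ⟨cm_left hw (n3 hq), h5 q hq⟩⟩⟩)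
  rw [le_centralizer_iff, ← hc]
  refine three_subgroups_cent (commutator_comm K Q ▸ h3.trans h2) (commutator_le.2 fun q hq x hx =>
    ((H68.Push.mem_cm.1 (this hx).2).2 q hq).2)

theorem exists_nk {F : Type*} [Field F] {ρ : G → SL(2, F)} {ψ : G → Fin 2 → F} (h2 : (2 : F) = 0)
    (sq : ∀ a ∈ W, a * a = 1) (hW : W ≤ K) (nrm : K ≤ 𝐍(W))
    (ρ_mul : ∀ x ∈ K, ∀ y ∈ K, ρ (x * y) = ρ x * ρ y)
    (ψ_mul : ∀ u ∈ W, ∀ v ∈ W, ψ (u * v) = ψ u + ψ v) (ρ_surj : ∀ m, ∃ x ∈ K, ρ x = m)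
    (ψ_surj : ∀ s, ∃ v ∈ W, ψ v = s) (ψ_ker : ∀ v ∈ W, ψ v = 0 ↔ v ∈ 𝐂(K))
    (ρ_ker : ∀ x ∈ K, ρ x = 1 ↔ x ∈ W)
    (equiv : ∀ x ∈ K, ∀ v ∈ W, ψ (x * v * x⁻¹) = (ρ x : Matrix (Fin 2) (Fin 2) F) *ᵥ ψ v)
    (hT : IsSylowIn 2 T K) : ∃ ρ ψ, NK F K W T ρ ψ := by
  let ρH : K →* SL(2, F) := MonoidHom.mk' (fun x => ρ x) fun x y => ρ_mul x x.2 y y.2
  have m : ∀ x ∈ K, x ∈ ((H10.unitriSL (Fin 2) F).comap ρH).map K.subtype ↔ ρ x = upT (ρ x 0 1) :=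
    fun x hx => ⟨by
      rintro ⟨y, hy, rfl⟩
      obtain ⟨c, e⟩ := H68S.mem_unitri.1 hy
      change ρ y = _ at e
      change ρ y = upT (ρ y 0 1)
      rw [e]; rfl, fun e => ⟨⟨x, hx⟩, H68S.mem_unitri.2 ⟨_, e⟩, rfl⟩⟩
  have k : NK F K W _ ρ ψ := ⟨h2, sq, fun x hx => (m x (hW hx)).2 (by
    rw [(ρ_ker x (hW hx)).2 hx, ← H24.upT_zero]; rfl), map_subtype_le _, nrm, ρ_mul, ψ_mul, ρ_surj,
    ψ_surj, ψ_ker, ρ_ker, equiv, m⟩
  obtain ⟨l, hl, e⟩ := k.syl.conj hT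
  have := k.cj l
  rw [e, cj_eq_of_mem hl, cj_eq_of_mem_normalizer (nrm hl)] at this
  exact ⟨_, _, this⟩

end H23.PU
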