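import Mathlib
import Cfsg.Agent.Base
import Cfsg.Agent.Lib.TI2.PuG

/-!
# Pushing up in groups of characteristic 2 type, VIII: the theorem
-/

set_option autoImplicit false
set_option linter.unusedSectionVars false

namespace H23.PU

open Subgroup Cfsg H69 H45 H55.Two Gold H23.L3 Matrix Equiv Equiv.Perm
open H24 (IsCharIn)
open scoped commutatorElement MatrixGroups

variable {G : Type*} [Group G] [Finite G] {H K T W Q : Subgroup G}

theorem ex4 {n : ℕ} (h : 6 ≤ n) :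
    ∃ σ : Perm (Fin n), sign σ = 1 ∧ σ * σ * (σ * σ) = 1 ∧ σ * σ ≠ 1 := by
  classical
  let f := extendDomainHom (Fin.castLEEmb h).toEquivRange
  obtain ⟨σ, h1, h2, h3⟩ : ∃ σ : Perm (Fin 6), sign σ = 1 ∧ σ * σ * (σ * σ) = 1 ∧ σ * σ ≠ 1 :=
    ⟨swap 0 1 * swap 0 2 * swap 0 3 * swap 4 5, by decide +kernel⟩
  refine ⟨f σ, (sign_extendDomain _ _).trans h1, by simp only [← map_mul, h2, map_one], fun e => h3
    (extendDomainHom_injective _ (by rw [map_mul, map_one]; exact e))⟩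

theorem add_self {M : Type*} [AddCommGroup M] {ψ : G → M} (sq : ∀ a ∈ W, a * a = 1)
    (hm : ∀ u ∈ W, ∀ v ∈ W, ψ (u * v) = ψ u + ψ v) (hk : ∀ v ∈ W, ψ v = 0 ↔ v ∈ 𝐂(K)) {v : G}
    (hv : v ∈ W) : ψ v + ψ v = 0 := by
  rw [← hm v hv v hv, sq v hv, hk 1 (one_mem _)]; exact one_mem _

theorem card_le {M : Type*} [AddCommGroup M] [Finite M] {ψ : G → M} (sq : ∀ a ∈ W, a * a = 1)
    (hm : ∀ u ∈ W, ∀ v ∈ W, ψ (u * v) = ψ u + ψ v) (hk : ∀ v ∈ W, ψ v = 0 ↔ v ∈ 𝐂(K))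
    {p : M → Prop} (hp : ∀ w ∈ W, p (ψ w)) (h : ∀ w ∈ W, w ∈ 𝐂(K) → w = 1) :
    Nat.card W ≤ Nat.card {m // p m} :=
  Nat.card_le_card_of_injective (fun w : W => (⟨ψ w, hp w w.2⟩ : {m // p m})) fun u v e => by
    have := h _ (mul_mem u.2 v.2) ((hk _ (mul_mem u.2 v.2)).1 (by
      rw [hm u u.2 v v.2, show ψ u = ψ v from congrArg Subtype.val e, add_self sq hm hk v.2]))
    exact Subtype.ext (mul_right_cancel (this.trans (sq v v.2).symm))

theorem fin (hG : IsCharacteristicTwoType G) (hK : K ≤ H) (hW : W = pCoreOf 2 K) (ks : Ks K W)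
    {T0 : Subgroup H} (b : IsBaumannBlock 2 T0 (K.subgroupOf H)) (hP : IsSylowIn 2 (T ⊓ K) K)
    (mk : (∀ w ∈ W, w * w = 1) → ⁅W, K⁆ = W → Irr K W → St K T W Q) (n : ¬ 𝐍(T) ≤ 𝐍(K)) :
    SectionalPRankLE 2 4 G := by
  obtain ⟨b1, -, b3, -, b5⟩ := b
  have e : pCoreOf 2 (K.subgroupOf H) = W.subgroupOf H := by
    rw [hW, H70.pCoreOf_subgroupOf_of_le 2 hK]
  have WK : W ≤ K := hW ▸ H70.pCoreOf_le 2 K
  have nW : 𝐍(K) ≤ 𝐍(W) := hW ▸ H70.normalizer_le_normalizer_pCoreOf 2 K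
  have hR : 𝐑(2, K) = K := by
    have := (map_subtype_res (p := 2) _).symm.trans (congrArg (Subgroup.map H.subtype) b1)
    rwa [map_subgroupOf_eq_of_le hK] at this
  have hc : ⁅W, K⁆ = W := by
    have := congrArg (Subgroup.map H.subtype) b3
    rwa [Subgroup.map_commutator, e, map_subgroupOf_eq_of_le hK, map_subgroupOf_eq_of_le (WK.trans hK)] at this
  rw [e] at b5
  have hQ : W.subgroupOf H = omegaOneCenter 2 (W.subgroupOf H) := by
    rcases b5 with ⟨_, _, _, _, -, -, -, h | h⟩ | h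
    exacts [h, absurd h.1 (by decide), h.2.choose_spec.2.2]
  have sq : ∀ w ∈ W, w * w = 1 := fun w hw => congrArg Subtype.val
    (ea_sq (H68B.oc_ea (W.subgroupOf H)) (a := ⟨w, hK (WK hw)⟩) (hQ.le hw))
  have a3 : W.relIndex K ≤ 6 → ((∀ w ∈ W, w ∈ 𝐂(K) → w = 1) → Nat.card W ≤ 4) →
      SectionalPRankLE 2 4 G := fun h1 h2 => by
    have a := mk_a3 hR WK (le_normalizer.trans nW) sq (by have := ks.card; omega) hc h2
    have s := mk sq hc a.irr
    obtain ⟨γ, hγ, n⟩ := s.exists_γ n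
    exact s.a3 a (s.cj hγ) (a.cj γ) n
  rw [← hQ] at b5
  rcases b5 with ⟨F, _, _, m, hF, ⟨e⟩, ⟨-, -, ρ, ψ, h1, h2, h3, h4⟩, -⟩ |
    ⟨-, m, ⟨e⟩, ⟨-, -, ρ, ψ, h1, h2, h2', h3, h4⟩, -⟩
  · obtain ⟨ρ, ψ, c1, c2, c3, c4, c5, c6, c7, c8⟩ := raw hK hW
      (fun (y : SL(2, F)) v => (y : Matrix (Fin 2) (Fin 2) F) *ᵥ v) e ρ ψ h1 h3 h4
    replace c4 : ∀ s, ∃ v ∈ W, ψ v = s := fun s => (c4 s).1 (h2 (Multiplicative.ofAdd s))
    rw [← Nat.card_eq_fintype_card] at hF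
    rcases m with _ | _ | m
    · exact absurd hF Finite.one_lt_card.ne'
    · refine a3 (c1.trans_le ((card_le_card_group _).trans_eq ?_)) fun h =>
        (card_le sq c6 c7 (p := fun _ => True) (fun _ _ => trivial) h).trans_eq ?_
      · rw [H10.card_SL_two, hF]; rfl
      · rw [Nat.card_congr (subtypeUnivEquiv fun _ => trivial), Nat.card_fun, hF]; simp
    · have h4 : 4 ≤ Nat.card F := by
        rw [hF, pow_succ, pow_succ]; have := Nat.one_le_two_pow (n := m); omega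
      obtain ⟨v, hv, e⟩ := c4 1
      obtain ⟨ρ, ψ, k⟩ := exists_nk (by
        simpa [e, one_add_one_eq_two] using congrFun (add_self sq c6 c7 hv) 0) sq WK
        (le_normalizer.trans nW) c5 c6 (fun y => (c2 y).1 (by
          rw [H10.commutator_SL_fin_eq_top 2 fun _ => h4]; trivial)) c4 c7 c3 c8 hP
      have s := mk sq hc k.irr
      obtain ⟨γ, hγ, n⟩ := s.exists_γ n
      exact s.lin hG k (by omega) hγ n
  · obtain ⟨ρ, ψ, c1, c2, c3, c4, c5, c6, c7, c8⟩ := raw hK hW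
      (fun (y : Perm (Fin (2 * m + 1))) v i => v (y⁻¹ i)) e ρ ψ h1 h3 fun e u =>
        (h4 e u).imp fun w hw => ⟨hw.1, funext hw.2⟩
    replace c4 : ∀ s, ∑ i, s i = 0 ↔ ∃ v ∈ W, ψ v = s := fun s =>
      Iff.trans ⟨h2' s, fun ⟨u, e⟩ => e ▸ h2 u⟩ (c4 s)
    have c0 := c1.trans_le (card_le_card_group _)
    rw [Nat.card_perm, Nat.card_fin] at c0
    rcases m with _ | _ | _ | m
    · exact absurd ks.card (by simp at c0; omega)
    · refine a3 c0 fun h => (card_le sq c6 c7 (p := fun s => ∑ i, s i = 0)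
        (fun w hw => (c4 _).2 ⟨w, hw, rfl⟩) h).trans_eq ?_
      rw [Nat.card_eq_fintype_card]; decide +kernel
    · have a : A5 K K W ρ ψ := ⟨sq, nW, le_normalizer, le_rfl, c6, fun u hu =>
        (ev_iff _).2 ((c4 _).2 ⟨u, hu, rfl⟩), fun v hv => (c4 v).1 ((ev_iff v).1 hv), c7,
        fun σ h => (c2 σ).1 h, fun x hx => (c2 _).2 ⟨x, hx, rfl⟩, fun x hx => (c3 x hx).1, c8⟩
      have s := mk sq hc a.irr
      obtain ⟨γ, hγ, n⟩ := s.exists_γ n
      exact s.a5 a hγ n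
    · obtain ⟨σ, h1, h2, h3⟩ := ex4 (n := 2 * (m + 1 + 1 + 1) + 1) (by omega)
      obtain ⟨x, hx, rfl⟩ := (c2 σ).1 h1
      have x2 := mul_mem hx hx
      rw [← c5 x hx x hx] at h2 h3
      rw [← c5 _ x2 _ x2, c3 _ (mul_mem x2 x2)] at h2
      exact (h3 ((c3 _ x2).2 (ks.sq x hx ⟨3, by
        rw [← sq _ h2]; norm_num [pow_succ, mul_assoc]⟩))).elim

theorem le_of_unique {M N : Subgroup G} (hM : maxTwoLocalsContaining T = {M})
    (hN : IsTwoLocal N) (hT : T ≤ N) : N ≤ M := by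
  obtain ⟨N', ⟨h1, h2⟩, hmax⟩ := Set.exists_max_image {X : Subgroup G | IsTwoLocal X ∧ N ≤ X}
    (fun X => Nat.card X) (Set.toFinite _) ⟨N, hN, le_rfl⟩
  have : N' ∈ maxTwoLocalsContaining T := ⟨⟨h1, fun X hX hle =>
    (eq_of_le_of_card_ge hle (hmax X ⟨hX, h2.trans hle⟩)).symm⟩, hT.trans h2⟩
  rw [hM] at this
  exact this ▸ h2

theorem xs_of (hR : 𝐑(2, K) = K)
    (h : Nonempty (K ⧸ pCore 2 K ≃* Multiplicative (ZMod 3)) ∨
      ∃ n : ℕ, 1 ≤ n ∧ Nonempty (K ⧸ pCore 2 K ≃* SL(2, GaloisField 2 n))) :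
    ∃ (X : Type) (_ : Group X), Xs X ∧ Nonempty (K ⧸ pCore 2 K ≃* X) := by
  rcases h with h | ⟨n, h1, ⟨e⟩⟩
  · exact ⟨_, _, xs_three, h⟩
  have hF := GaloisField.card 2 n (by omega)
  rcases n with _ | _ | n
  · omega
  · exfalso
    have h6 : Nat.card SL(2, GaloisField 2 (0 + 1)) = 6 := by rw [H10.card_SL_two, hF]; rfl
    haveI : Fact (Nat.Prime 3) := ⟨Nat.prime_three⟩
    obtain ⟨P, hP⟩ := Sylow.exists_subgroup_card_pow_prime (G := SL(2, GaloisField 2 (0 + 1))) 3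
      (n := 1) (by rw [h6]; decide)
    have i := P.card_mul_index
    rw [hP, h6] at i
    have s := e.surjective.comp (QuotientGroup.mk'_surjective (pCore 2 K))
    have := map_res (p := 2) (e.toMonoidHom.comp (QuotientGroup.mk' _)) ⊤
    rw [res_top, res_eq_self_iff.1 hR, map_top_of_surjective _ s] at this
    rw [top_le_iff.1 (this.le.trans (res_le_of_pow_mem fun x _ =>
      ⟨1, sq_mem_of_index_two (H := P) (by omega) x⟩)), index_top] at i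
    omega
  · refine ⟨_, _, xs_sl ?_, ⟨e⟩⟩
    rw [hF, pow_succ, pow_succ]; have := Nat.one_le_two_pow (n := n); omega

theorem main (hG : IsCharacteristicTwoType G) (T : Sylow 2 H) (hK : K = 𝐑(2, H))
    (hstar : Nonempty (K ⧸ pCore 2 K ≃* Multiplicative (ZMod 3)) ∨
      ∃ n : ℕ, 1 ≤ n ∧ Nonempty (K ⧸ pCore 2 K ≃* SL(2, GaloisField 2 n)))
    (hsyl : ∀ S : Subgroup G, IsPGroup 2 S → pCoreOf 2 H ≤ S → S ≤ 𝐍(K) →
      (∀ s ∈ S, ∀ k ∈ K, s * k * s⁻¹ * k⁻¹ ∈ pCoreOf 2 K) → S = pCoreOf 2 H)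
    (huniq : maxTwoLocalsContaining H = {𝐍(K)}) (n : ¬ 𝐍((T : Subgroup H).map H.subtype) ≤ 𝐍(K)) :
    SectionalPRankLE 2 4 G := by
  have hT : IsSylowIn 2 ((T : Subgroup H).map H.subtype) H := isSylowIn_map_subtype T
  have KH : K ≤ H := hK ▸ res_le H
  have HK : H ≤ 𝐍(K) := hK ▸ le_normalizer_res H
  obtain ⟨X, _, x, ⟨e⟩⟩ := xs_of (hK ▸ res_res H) hstar
  have s := e.surjective.comp (QuotientGroup.mk'_surjective (pCore 2 K))
  have hk : (e.toMonoidHom.comp (QuotientGroup.mk' _)).ker = (pCoreOf 2 K).subgroupOf K := by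
    rw [H70.pCoreOf_subgroupOf]; ext; simp
  have ks := ks_of x _ s (H70.pCoreOf_le 2 K) hk
  have e1 : 𝐑(2, (⊤ : Subgroup H)) = K.subgroupOf H := by rw [hK, res_subgroupOf, res_top]
  have u : ∀ X : Subgroup G, IsPGroup 2 X → X ≠ ⊥ → H ≤ 𝐍(X) → 𝐍(X) ≤ 𝐍(K) := fun X h1 h2 =>
    le_of_unique huniq ⟨X, h1, h2, rfl⟩
  obtain ⟨⟨⟨R, hR, R1, eR⟩, -⟩, -⟩ : 𝐍(K) ∈ maxTwoLocalsContaining H := huniq ▸ rfl
  have pO := H70.isPGroup_pCoreOf 2 𝐍(K)
  have pQ := H70.isPGroup_pCoreOf 2 H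
  have nO := H70.le_normalizer_pCoreOf 2 𝐍(K)
  have nQ := H70.le_normalizer_pCoreOf 2 H
  have O1 : pCoreOf 2 𝐍(K) ≠ ⊥ := fun e => R1 (le_bot_iff.1 (e ▸ H70.le_pCoreOf hR
    (eR ▸ le_normalizer) eR.le))
  have cO : 𝐂(pCoreOf 2 𝐍(K)) ≤ pCoreOf 2 𝐍(K) := (le_inf ((centralizer_le_normalizer _).trans
    (u _ pO O1 (HK.trans nO))) le_rfl).trans (eR ▸ charP hG hR R1)
  have key : ∀ S : Subgroup G, IsPGroup 2 S → S ≤ 𝐍(K) → K ≤ 𝐍(S) → ⁅S, K⁆ ≤ pCoreOf 2 K := fun S h1 h2 h3 =>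
    (le_inf (commutator_le_left_of_le_normalizer h3)
      (commutator_le_right_of_le_normalizer h2)).trans (inf_le_pCoreOf h1 h3)
  have QK := (H70.pCoreOf_le 2 H).trans HK
  have OQ : pCoreOf 2 𝐍(K) ≤ pCoreOf 2 H := by
    have h1 := pQ.to_sup_of_normal_right' pO (QK.trans nO)
    have h2 := sup_le QK (H70.pCoreOf_le 2 𝐍(K))
    exact le_sup_right.trans (hsyl _ h1 le_sup_left h2 (commutator_le.1 (key _ h1 h2
      (H69.le_normalizer_sup (KH.trans nQ) (le_normalizer.trans nO))))).le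
  have cQ : 𝐂(pCoreOf 2 H) ≤ pCoreOf 2 H := (centralizer_anti OQ).trans (cO.trans OQ)
  have hc : ∀ C, IsCharIn C (T : Subgroup H) → C ≠ ⊥ → ¬ C.Normal := fun C h1 h2 h3 =>
    n ((h1.map (f := H.subtype) (by simp)).normalizer_le.trans (u _
      ((T.isPGroup'.to_le h1.1).map _) (mt map_subtype_eq_bot_iff.1 h2)
      (normal_iff_le_normalizer_map.1 h3)))
  have QT := hT.pCoreOf_le
  have b := block T (by
    rw [e1]
    refine ks_of x ((e.toMonoidHom.comp (QuotientGroup.mk' _)).comp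
      (subgroupOfEquivOfLe KH).toMonoidHom) (s.comp (subgroupOfEquivOfLe KH).surjective)
      (H70.pCoreOf_le 2 _) ?_
    rw [H70.pCoreOf_subgroupOf_of_le 2 KH]
    exact Subgroup.ext fun y => SetLike.ext_iff.1 hk ⟨y, y.2⟩)
    (H70.charP_iff.1 (H70.charP_of_centralizer_le cQ))
    (hc _ ⟨le_rfl, by rw [subgroupOf_self]; infer_instance⟩ fun e => O1 (by
      rw [e, Subgroup.map_bot] at QT; exact le_bot_iff.1 (OQ.trans QT))) hc
  rw [e1] at b
  have hP := hT.inf_normal KH HK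
  have WQ := H70.pCoreOf_le_pCoreOf_of_normal (p := 2) KH HK
  have nW := H70.normalizer_le_normalizer_pCoreOf 2 K
  have kQ := key _ pQ QK (KH.trans nQ)
  refine fin hG KH rfl ks b hP (Q := pCoreOf 2 H) (fun sq hc i => ?_) n
  have W1 : pCoreOf 2 K ≠ ⊥ := fun e => ks.not_le ((le_inf ((le_centralizer_iff.1
    (le_centralizer_of_commutator_eq_bot (le_bot_iff.1 (e ▸ kQ)))).trans cQ) le_rfl).trans
      (inf_le_pCoreOf pQ (KH.trans nQ)))
  have ab := ea_cent (ea_of_sq sq)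
  refine ⟨hT.isP, hT.le.trans HK, rfl, sq, W1, WQ, QT, KH.trans nQ, hT.le.trans nQ,
    le_cent_of_irr i hc W1 pQ WQ ab QK (le_normalizer.trans nW) (KH.trans nQ) (QK.trans nW) kQ,
    (ks.simple _ inf_le_left (H69.le_normalizer_inf le_normalizer (H69.le_normalizer_centralizer
      (le_normalizer.trans nW)))).resolve_right fun e => W1 (hc.symm.trans
        (commutator_eq_bot_of_le_centralizer (le_centralizer_iff.1 (e.trans
          (sup_le inf_le_right ab))))), ⟨_, OQ, nO, cO⟩, fun y hy h => ?_,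
    fun X h1 h2 h3 h4 => u X h1 h2 (hT.sup_res.ge.trans (sup_le h4 (hK ▸ h3))), hP⟩
  have m : ∀ y ∈ 𝐍(K), y ∈ H68.Push.cm (pCoreOf 2 K) K ↔
      ∀ k ∈ K, y * k * y⁻¹ * k⁻¹ ∈ pCoreOf 2 K := fun y hy => by
    rw [H68.Push.mem_cm, and_iff_right (nW hy)]
    exact forall₂_congr fun k _ => by rw [← commutatorElement_inv, inv_mem_iff]; rfl
  exact (hsyl (_ ⊓ H68.Push.cm (pCoreOf 2 K) K) (hT.isP.to_le inf_le_left)
    (fun q hq => ⟨QT hq, (m q (QK hq)).2 (commutator_le.1 kQ q hq)⟩)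
    (inf_le_left.trans (hT.le.trans HK)) fun q hq => (m q (HK (hT.le hq.1))).1 hq.2).le
      ⟨hy, (m y (HK (hT.le hy))).2 h⟩

theorem odd_eq (H : Subgroup G) : oddGenerated H = 𝐑(2, H) :=
  le_antisymm ((closure_le _).2 fun _ h => mem_res h.1 (Nat.coprime_two_right.2 h.2))
    (res_le_iff.2 fun _ h h' => subset_closure ⟨h, Nat.coprime_two_right.1 h'⟩)

end H23.PU
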